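import Groth.Agent.H98.Bass1.GrFracSurj

set_option autoImplicit false
universe u

/-!
# A local ring of fractions of a graded domain in which all nonzero homogeneous elements are
inverted is a regular local ring
-/

namespace Groth.Agent.H98.Bass1

open DirectSum Module IsLocalRing

section Regular

variable {ι : Type} [AddCommGroup ι] [DecidableEq ι] [Module.Free ℤ ι] [Module.Finite ℤ ι]
variable {R : Type u} [CommRing R] {𝒜 : ι → AddSubgroup R} [GradedRing 𝒜]
variable {q : HomogeneousIdeal 𝒜} [q.toIdeal.IsPrime]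
variable {B : Type u} [CommRing B] [IsLocalRing B] {φ : R →+* B} (h : IsGrFrac q φ)
variable (K : Type u) [Field K] (ψ : K →+* B) (hψ : ∀ b : B, b ∈ WW q φ 0 ↔ ∃ κ, ψ κ = b)

include h hψ in
theorem isRegularLocalRing_and_dim_of_field :
    IsRegularLocalRing B ∧ ringKrullDim B ≤ Nat.card (Sig h) := by
  let _ : Algebra (MvPolynomial (Sig h) K) B := (Phi h K ψ).toAlgebra
  have halg : ∀ f, algebraMap (MvPolynomial (Sig h) K) B f = Phi h K ψ f := fun _ => rfl
  let P' : Ideal (MvPolynomial (Sig h) K) := (maximalIdeal B).comap (Phi h K ψ)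
  have : P'.IsPrime := Ideal.comap_isPrime _ _
  have hloc : IsLocalization.AtPrime B P' := by
    rw [IsLocalization.AtPrime, isLocalization_iff]
    refine ⟨?_, ?_, ?_⟩
    · rintro ⟨s, hs⟩
      rw [halg]
      have : Phi h K ψ s ∉ maximalIdeal B := fun hmem => hs (Ideal.mem_comap.mpr hmem)
      exact not_not.mp (fun hnu => this ((mem_maximalIdeal _).mpr (mem_nonunits_iff.mpr hnu)))
    · intro b
      obtain ⟨f, s, hs, e⟩ := exists_frac h K ψ hψ b
      refine ⟨⟨f, ⟨s, ?_⟩⟩, ?_⟩
      · intro hmem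
        have h1 : Phi h K ψ s ∈ maximalIdeal B := Ideal.mem_comap.mp hmem
        exact ((mem_maximalIdeal _).mp h1) hs
      · rw [halg, halg]
        exact e
    · intro x y hxy
      rw [halg, halg] at hxy
      exact ⟨1, by rw [Phi_injective h K ψ hψ hxy]⟩
  constructor
  · exact IsRegularLocalRing.of_ringEquiv
      (IsLocalization.algEquiv P'.primeCompl (Localization.AtPrime P') B).toRingEquiv
  · rw [IsLocalization.AtPrime.ringKrullDim_eq_height P' B]
    have h1 : (P'.height : WithBot ℕ∞) ≤ ringKrullDim (MvPolynomial (Sig h) K) :=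
      Ideal.height_le_ringKrullDim_of_ne_top Ideal.IsPrime.ne_top'
    rw [MvPolynomial.ringKrullDim_of_isNoetherianRing, ringKrullDim_eq_zero_of_field, zero_add] at h1
    exact h1

/-- the subring of degree-zero fractions -/
def W0 (q : HomogeneousIdeal 𝒜) [q.toIdeal.IsPrime] (φ : R →+* B) : Subring B where
  carrier := WW q φ 0
  mul_mem' {a b} ha hb := by
    have := mul_mem_WW q φ ha hb
    rwa [add_zero] at this
  one_mem' := one_mem_WW q φ
  add_mem' {a b} ha hb := add_mem ha hb
  zero_mem' := zero_mem _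
  neg_mem' {a} ha := neg_mem ha

omit [Module.Free ℤ ι] [Module.Finite ℤ ι] in
include h in
theorem bot_isMaximal_W0 : (⊥ : Ideal ↥(W0 q φ)).IsMaximal := by
  rw [Ideal.isMaximal_iff]
  constructor
  · intro h1
    rw [Ideal.mem_bot] at h1
    have : ((1 : ↥(W0 q φ)) : B) = 0 := congrArg Subtype.val h1
    exact one_ne_zero this
  · intro J x _ hx hxJ
    have hx0 : (x : B) ≠ 0 := by
      intro h0
      apply hx
      rw [Ideal.mem_bot]
      exact Subtype.ext h0
    have hu := h.isUnit_of_mem_WW x.2 hx0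
    have hinv : ((hu.unit⁻¹ : Bˣ) : B) ∈ WW q φ 0 := by
      have := h.inv_mem_WW (b := hu.unit) x.2
      rwa [neg_zero] at this
    have h1 : (⟨((hu.unit⁻¹ : Bˣ) : B), hinv⟩ : ↥(W0 q φ)) * x = 1 := by
      apply Subtype.ext
      change ((hu.unit⁻¹ : Bˣ) : B) * (x : B) = 1
      exact hu.val_inv_mul
    rw [← h1]
    exact Ideal.mul_mem_left _ _ hxJ

include h in
/-- the main structure theorem -/
theorem isRegularLocalRing_and_dim_of_isGrFrac :
    IsRegularLocalRing B ∧ ringKrullDim B ≤ Module.finrank ℤ ι := by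
  have hmax := bot_isMaximal_W0 h
  let K : Type u := ↥(W0 q φ) ⧸ (⊥ : Ideal ↥(W0 q φ))
  let _ : Field K := Ideal.Quotient.field (⊥ : Ideal ↥(W0 q φ))
  let e : K ≃+* ↥(W0 q φ) := RingEquiv.quotientBot ↥(W0 q φ)
  let ψ : K →+* B := (W0 q φ).subtype.comp e.toRingHom
  have hψ : ∀ b : B, b ∈ WW q φ 0 ↔ ∃ κ, ψ κ = b := by
    intro b
    constructor
    · intro hb
      refine ⟨e.symm ⟨b, hb⟩, ?_⟩
      change ((e (e.symm ⟨b, hb⟩) : ↥(W0 q φ)) : B) = b
      rw [RingEquiv.apply_symm_apply]
    · rintro ⟨κ, rfl⟩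
      exact (e κ).2
  obtain ⟨h1, h2⟩ := isRegularLocalRing_and_dim_of_field h K ψ hψ
  refine ⟨h1, h2.trans ?_⟩
  have h3 : Nat.card (Sig h) = Module.finrank ℤ ↥(Hsub h) := by
    rw [Nat.card_eq_fintype_card, Module.finrank_eq_card_chooseBasisIndex]
  rw [h3]
  exact_mod_cast Submodule.finrank_le (Hsub h)

include h in
theorem isRegularLocalRing_of_isGrFrac : IsRegularLocalRing B :=
  (isRegularLocalRing_and_dim_of_isGrFrac h).1

end Regular

end Groth.Agent.H98.Bass1
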