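import Groth.Agent.H98.Bass1.BassShift
import Groth.Agent.H98.Bass1.GrFracRegular
import Groth.Agent.Lead.RegularGlDim
import Groth.Agent.Lead.RegularLocal2

set_option autoImplicit false
universe u

/-!
# Bass numbers at a prime and at its homogeneous core
-/

namespace Groth.Agent.H98.Bass1

open CategoryTheory Abelian IsLocalRing Groth.Agent.H98.GrStar Groth.Agent.H98.Bass0

section Ring

variable {ι : Type} [AddCommGroup ι] [DecidableEq ι]
variable {R : Type u} [CommRing R] {𝒜 : ι → AddSubgroup R} [GradedRing 𝒜]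
variable (q : HomogeneousIdeal 𝒜) [q.toIdeal.IsPrime] (p : Ideal R) [p.IsPrime]
  (hqp : q.toIdeal ≤ p) (hcore : ∀ g, ∀ x ∈ 𝒜 g, x ∈ p → x ∈ q.toIdeal)

/-- the canonical map `R → R_p ⧸ q R_p` -/
noncomputable def phiTT : R →+* TT q p :=
  (Ideal.Quotient.mk (QQ p q)).comp (algebraMap R (Localization.AtPrime p))

omit [q.toIdeal.IsPrime] in
include hqp in
theorem QQ_ne_top : QQ p q ≠ ⊤ := by
  intro htop
  have h1 : QQ p q ≤ maximalIdeal (Localization.AtPrime p) := by
    rw [← Localization.AtPrime.map_eq_maximalIdeal]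
    exact Ideal.map_mono hqp
  rw [htop] at h1
  exact (Ideal.IsPrime.ne_top inferInstance) (top_le_iff.mp h1)

omit [q.toIdeal.IsPrime] in
include hqp in
theorem nontrivial_TT : Nontrivial (TT q p) :=
  Ideal.Quotient.nontrivial_iff.mpr (QQ_ne_top q p hqp)

omit [q.toIdeal.IsPrime] in
include hqp in
theorem isLocalRing_TT : IsLocalRing (TT q p) :=
  haveI := nontrivial_TT q p hqp
  IsLocalRing.of_surjective' (Ideal.Quotient.mk (QQ p q)) Ideal.Quotient.mk_surjective

include hqp hcore in
theorem isGrFrac_phiTT : IsGrFrac q (phiTT q p) where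
  ker x := by
    unfold phiTT
    rw [RingHom.comp_apply, Ideal.Quotient.eq_zero_iff_mem]
    have hdisj : Disjoint (p.primeCompl : Set R) (q.toIdeal : Set R) := by
      rw [Set.disjoint_left]
      intro a ha haq
      exact ha (hqp haq)
    have := IsLocalization.under_map_of_isPrime_disjoint p.primeCompl (Localization.AtPrime p)
      ‹q.toIdeal.IsPrime› hdisj
    constructor
    · intro hx
      rw [← this, Ideal.mem_comap]
      exact hx
    · intro hx
      exact Ideal.mem_map_of_mem _ hx
  unit g x hx hxq := by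
    unfold phiTT
    rw [RingHom.comp_apply]
    apply IsUnit.map
    exact IsLocalization.map_units (Localization.AtPrime p)
      (⟨x, fun hxp => hxq (hcore g x hx hxp)⟩ : p.primeCompl)
  surj b := by
    obtain ⟨a, rfl⟩ := Ideal.Quotient.mk_surjective b
    obtain ⟨x, y, rfl⟩ := IsLocalization.exists_mk'_eq p.primeCompl a
    refine ⟨x, (y : R), ?_, ?_⟩
    · unfold phiTT
      rw [RingHom.comp_apply]
      apply IsUnit.map
      exact IsLocalization.map_units (Localization.AtPrime p) y
    · unfold phiTT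
      rw [RingHom.comp_apply, RingHom.comp_apply, ← map_mul, IsLocalization.mk'_spec]

end Ring


section Dim

variable {ι : Type} [AddCommGroup ι] [DecidableEq ι] [Module.Free ℤ ι] [Module.Finite ℤ ι]
variable {R : Type u} [CommRing R] {𝒜 : ι → AddSubgroup R} [GradedRing 𝒜]
variable (q : HomogeneousIdeal 𝒜) [q.toIdeal.IsPrime] (p : Ideal R) [p.IsPrime]
  (hqp : q.toIdeal ≤ p) (hcore : ∀ g, ∀ x ∈ 𝒜 g, x ∈ p → x ∈ q.toIdeal)

include hqp hcore in
theorem isRegularLocalRing_TT : IsRegularLocalRing (TT q p) :=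
  haveI := isLocalRing_TT q p hqp
  isRegularLocalRing_of_isGrFrac (isGrFrac_phiTT q p hqp hcore)

omit [Module.Free ℤ ι] [Module.Finite ℤ ι] [q.toIdeal.IsPrime] in
include hqp in
theorem isPrime_map : (p.map (Ideal.Quotient.mk q.toIdeal)).IsPrime :=
  Ideal.map_isPrime_of_surjective Ideal.Quotient.mk_surjective (by rwa [Ideal.mk_ker])

omit [Module.Free ℤ ι] [Module.Finite ℤ ι] [q.toIdeal.IsPrime] in
include hqp in
theorem submonoid_eq : Algebra.algebraMapSubmonoid (R ⧸ q.toIdeal) p.primeCompl =
    (haveI := isPrime_map q p hqp; (p.map (Ideal.Quotient.mk q.toIdeal)).primeCompl) := by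
  ext x
  obtain ⟨x, rfl⟩ := Ideal.Quotient.mk_surjective x
  constructor
  · rintro ⟨s, hs, hsx⟩
    change Ideal.Quotient.mk q.toIdeal s = _ at hsx
    rw [← hsx]
    intro hmem
    exact hs ((Ideal.mem_quotient_iff_mem hqp).mp hmem)
  · intro hx
    refine ⟨x, fun hxp => hx ((Ideal.mem_quotient_iff_mem hqp).mpr hxp), rfl⟩

omit [Module.Free ℤ ι] [Module.Finite ℤ ι] [q.toIdeal.IsPrime] in
include hqp in
theorem ringKrullDim_TT :
    ringKrullDim (TT q p) = (p.map (Ideal.Quotient.mk q.toIdeal)).height := by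
  have := isPrime_map q p hqp
  have h1 : IsLocalization (Algebra.algebraMapSubmonoid (R ⧸ q.toIdeal) p.primeCompl) (TT q p) :=
    inferInstance
  rw [submonoid_eq q p hqp] at h1
  have : IsLocalization.AtPrime (TT q p) (p.map (Ideal.Quotient.mk q.toIdeal)) := h1
  exact IsLocalization.AtPrime.ringKrullDim_eq_height (p.map (Ideal.Quotient.mk q.toIdeal)) (TT q p)

include hqp hcore in
/-- `ht(p/q)` is at most the rank of the grading group -/
theorem height_map_le :
    ((p.map (Ideal.Quotient.mk q.toIdeal)).height : WithBot ℕ∞) ≤ Module.finrank ℤ ι := by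
  haveI := isLocalRing_TT q p hqp
  rw [← ringKrullDim_TT q p hqp]
  exact (isRegularLocalRing_and_dim_of_isGrFrac (isGrFrac_phiTT q p hqp hcore)).2

end Dim


section Main

variable {ι : Type} [AddCommGroup ι] [DecidableEq ι] [Module.Free ℤ ι] [Module.Finite ℤ ι]
variable {R : Type u} [CommRing R] [IsNoetherianRing R] (𝒜 : ι → AddSubgroup R) [GradedRing 𝒜]
variable {M : Type u} [AddCommGroup M] [Module R M] (ℳ : ι → AddSubgroup M)
  [DirectSum.Decomposition ℳ] [SetLike.GradedSMul 𝒜 ℳ]
variable (q : HomogeneousIdeal 𝒜) [q.toIdeal.IsPrime] (p : Ideal R) [p.IsPrime]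
  (hqp : q.toIdeal ≤ p) (hcore : ∀ g, ∀ x ∈ 𝒜 g, x ∈ p → x ∈ q.toIdeal)

omit [IsNoetherianRing R] [Module.Free ℤ ι] [Module.Finite ℤ ι] [q.toIdeal.IsPrime] in
/-- `(R_p ⧸ q R_p) ⧸ (x₁, …, x_d) ≅ k(p)` when the `x_i` generate the maximal ideal -/
theorem exists_quot_equiv_residueField [IsLocalRing (TT q p)]
    (rs : List (Localization.AtPrime p))
    (hrs : Ideal.ofList (rs.map (algebraMap (Localization.AtPrime p) (TT q p))) =
      maximalIdeal (TT q p)) :
    Nonempty ((TT q p ⧸ (Ideal.ofList rs • ⊤ : Submodule (Localization.AtPrime p) (TT q p)))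
      ≃ₗ[Localization.AtPrime p] ResidueField (Localization.AtPrime p)) := by
  have hN : (Ideal.ofList rs • ⊤ : Submodule (Localization.AtPrime p) (TT q p)) =
      (maximalIdeal (TT q p)).restrictScalars (Localization.AtPrime p) := by
    rw [Ideal.smul_top_eq_map, Ideal.map_ofList, hrs]
  let π : Localization.AtPrime p →ₗ[Localization.AtPrime p]
      (TT q p ⧸ (Ideal.ofList rs • ⊤ : Submodule (Localization.AtPrime p) (TT q p))) :=
    (Submodule.mkQ _).comp (Submodule.mkQ (QQ p q))
  have hsurj : Function.Surjective π :=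
    (Submodule.mkQ_surjective _).comp (Submodule.mkQ_surjective _)
  have : IsLocalHom (Ideal.Quotient.mk (QQ p q)) :=
    IsLocalHom.of_surjective _ Ideal.Quotient.mk_surjective
  have hker : LinearMap.ker π = maximalIdeal (Localization.AtPrime p) := by
    ext a
    rw [LinearMap.mem_ker, LinearMap.comp_apply, Submodule.mkQ_apply, Submodule.mkQ_apply,
      Submodule.Quotient.mk_eq_zero, hN, Submodule.restrictScalars_mem,
      ← maximalIdeal_comap (Ideal.Quotient.mk (QQ p q)), Ideal.mem_comap]
    rfl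
  exact ⟨(π.quotKerEquivOfSurjective hsurj).symm.trans (Submodule.quotEquivOfEq _ _ hker)⟩

include ℳ hqp hcore in
/-- the comparison of Bass numbers at `p` and at its homogeneous core `q` -/
theorem bassNum_core (d : ℕ) (hd : (p.map (Ideal.Quotient.mk q.toIdeal)).height = d) :
    (∀ i : ℕ, i < d → GrLC.bassNum p M i = 0) ∧
      ∀ j : ℕ, GrLC.bassNum p M (d + j) = GrLC.bassNum q.toIdeal M j := by
  have := isRegularLocalRing_TT q p hqp hcore
  have hdim : ringKrullDim (TT q p) = d := by
    rw [ringKrullDim_TT q p hqp, hd]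
    rfl
  obtain ⟨xb, hxb⟩ := Groth.Agent.Lead.RLR.exists_fin_span_eq (TT q p) d hdim
  have hreg := Groth.Agent.Lead.RLR.isRegular_ofFn (TT q p) d hdim xb hxb
  have hx : ∀ i, ∃ a : Localization.AtPrime p, Ideal.Quotient.mk (QQ p q) a = xb i :=
    fun i => Ideal.Quotient.mk_surjective (xb i)
  choose x hx using hx
  have hmap : (List.ofFn x).map (algebraMap (Localization.AtPrime p) (TT q p)) = List.ofFn xb := by
    rw [List.map_ofFn]
    congr 1
    funext i
    exact hx i
  have hw : RingTheory.Sequence.IsWeaklyRegular (TT q p) (List.ofFn x) := by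
    rw [← RingTheory.Sequence.isWeaklyRegular_map_algebraMap_iff (TT q p) (TT q p) (List.ofFn x),
      hmap]
    exact hreg.toIsWeaklyRegular
  have hrs : Ideal.ofList ((List.ofFn x).map (algebraMap (Localization.AtPrime p) (TT q p))) =
      maximalIdeal (TT q p) := by
    rw [hmap, ← hxb]
    unfold Ideal.ofList
    congr 1
    ext z
    simp [List.mem_ofFn]
  obtain ⟨e⟩ := exists_quot_equiv_residueField 𝒜 q p (List.ofFn x) hrs
  have := bassNum_shift (M := M) (minRes 𝒜 ℳ) q p hqp hcore (minRes_isMinimal 𝒜 ℳ) (List.ofFn x) hw e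
  rw [List.length_ofFn] at this
  exact this

end Main

end Groth.Agent.H98.Bass1
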