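import Groth.Agent.H98.Bass1.Final
import Groth.Agent.H72.DepthExt

set_option autoImplicit false
universe u

/-!
# Depth at a prime and at its homogeneous core
-/

namespace Groth.Agent.H98.Bass1

open CategoryTheory Abelian IsLocalRing Groth.Agent.H98.GrStar Groth.Agent.H98.Bass0

section DepthExt

variable {A : Type u} [CommRing A] [IsLocalRing A] [IsNoetherianRing A]
variable (N : Type u) [AddCommGroup N] [Module A N] [Module.Finite A N]

theorem smul_top_ne_top_of_nontrivial [Nontrivial N] :
    maximalIdeal A • (⊤ : Submodule A N) ≠ ⊤ := by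
  intro h
  have h1 : (⊤ : Submodule A N) = ⊥ :=
    Submodule.eq_bot_of_le_smul_of_le_jacobson_bot (maximalIdeal A) ⊤ Module.Finite.fg_top
      (le_of_eq h.symm) (maximalIdeal_le_jacobson ⊥)
  exact top_ne_bot h1

/-- depth via vanishing of `Ext` out of the residue field -/
theorem le_depth_iff [Nontrivial N] (n : ℕ) :
    (n : ℕ∞) ≤ LocCoh.depth A N ↔
      ∀ i < n, Subsingleton (Ext.{u} (ModuleCat.of A (ResidueField A)) (ModuleCat.of A N) i) := by
  unfold LocCoh.depth
  rw [Groth.Agent.H72.DepthExt.le_idealDepth_iff_ext (maximalIdeal A) N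
    (smul_top_ne_top_of_nontrivial N) n]
  have e : Shrink.{u} (A ⧸ maximalIdeal A) ≃ₗ[A] ResidueField A :=
    Shrink.linearEquiv A (A ⧸ maximalIdeal A)
  constructor
  · intro h i hi
    haveI := h i hi
    exact (extCongrLeft e (ModuleCat.of A N) i).symm.toEquiv.subsingleton
  · intro h i hi
    haveI := h i hi
    exact (extCongrLeft e (ModuleCat.of A N) i).toEquiv.subsingleton

theorem depth_eq_top_of_subsingleton [Subsingleton N] : LocCoh.depth A N = ⊤ := by
  unfold LocCoh.depth LocCoh.idealDepth
  rw [if_pos (Subsingleton.elim _ _)]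

end DepthExt

section Supp

variable {ι : Type} [AddCommGroup ι] [DecidableEq ι]
variable {R : Type u} [CommRing R] {𝒜 : ι → AddSubgroup R} [GradedRing 𝒜]
variable {M : Type u} [AddCommGroup M] [Module R M] (ℳ : ι → AddSubgroup M)
  [DirectSum.Decomposition ℳ] [SetLike.GradedSMul 𝒜 ℳ]
variable (q : HomogeneousIdeal 𝒜) [q.toIdeal.IsPrime] (p : Ideal R) [p.IsPrime]
  (hqp : q.toIdeal ≤ p) (hcore : ∀ g, ∀ x ∈ 𝒜 g, x ∈ p → x ∈ q.toIdeal)

include hqp in
theorem subsingleton_loc_core (h : Subsingleton (LocalizedModule p.primeCompl M)) :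
    Subsingleton (LocalizedModule q.toIdeal.primeCompl M) := by
  refine ⟨fun a b => ?_⟩
  have key : ∀ z : LocalizedModule q.toIdeal.primeCompl M, z = 0 := by
    intro z
    induction z using LocalizedModule.induction_on with
    | h x s =>
      have h1 : (LocalizedModule.mk x 1 : LocalizedModule p.primeCompl M) = 0 := Subsingleton.elim _ _
      rw [mk_eq_zero_iff'] at h1
      obtain ⟨t, ht, htx⟩ := h1
      rw [mk_eq_zero_iff']
      exact ⟨t, fun htq => ht (hqp htq), htx⟩
  rw [key a, key b]

include ℳ hcore in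
/-- if `M_p ≠ 0` then `M_{p*} ≠ 0` for a graded module `M` -/
theorem nontrivial_loc_core (h : Nontrivial (LocalizedModule p.primeCompl M)) :
    Nontrivial (LocalizedModule q.toIdeal.primeCompl M) := by
  classical
  by_contra hnt
  rw [not_nontrivial_iff_subsingleton] at hnt
  -- every homogeneous element is killed by a homogeneous element outside `p`
  have hhom : ∀ g, ∀ x ∈ ℳ g, ∃ t : R, t ∉ p ∧ t • x = 0 := by
    intro g x hx
    have h1 : (LocalizedModule.mk x 1 : LocalizedModule q.toIdeal.primeCompl M) = 0 :=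
      Subsingleton.elim _ _
    rw [mk_eq_zero_iff'] at h1
    obtain ⟨s, hs, hsx⟩ := h1
    obtain ⟨k, hk⟩ : ∃ k, ((DirectSum.decompose 𝒜 s k : 𝒜 k) : R) ∉ q.toIdeal := by
      by_contra hall
      push Not at hall
      apply hs
      rw [← DirectSum.sum_support_decompose 𝒜 s]
      exact Ideal.sum_mem _ fun i _ => hall i
    refine ⟨_, fun hp => hk (hcore k _ (SetLike.coe_mem _) hp), ?_⟩
    rw [← decompose_smul_of_mem 𝒜 ℳ hx s k, hsx]
    simp
  apply not_subsingleton (LocalizedModule p.primeCompl M)
  refine ⟨fun a b => ?_⟩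
  have key : ∀ z : LocalizedModule p.primeCompl M, z = 0 := by
    intro z
    induction z using LocalizedModule.induction_on with
    | h x s =>
      rw [mk_eq_zero_iff']
      have h1 : ∀ g ∈ (DirectSum.decompose ℳ x).support, ∃ t : R, t ∉ p ∧
          t • ((DirectSum.decompose ℳ x g : ℳ g) : M) = 0 := fun g _ => hhom g _ (SetLike.coe_mem _)
      choose! t ht htx using h1
      refine ⟨∏ g ∈ (DirectSum.decompose ℳ x).support, t g, ?_, ?_⟩
      · intro hmem
        obtain ⟨g, hg, hgp⟩ := (Ideal.IsPrime.prod_mem_iff.mp hmem)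
        exact ht g hg hgp
      · set supp := (DirectSum.decompose ℳ x).support with hsupp
        set T := ∏ g ∈ supp, t g with hT
        have hx : x = ∑ g ∈ supp, ((DirectSum.decompose ℳ x g : ℳ g) : M) :=
          (DirectSum.sum_support_decompose ℳ x).symm
        have hz : ∀ g ∈ supp, T • ((DirectSum.decompose ℳ x g : ℳ g) : M) = 0 := by
          intro g hg
          rw [hT, ← Finset.mul_prod_erase _ _ hg, mul_comm, mul_smul, htx g hg, smul_zero]
        calc T • x = T • ∑ g ∈ supp, ((DirectSum.decompose ℳ x g : ℳ g) : M) := by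
              conv_lhs => rw [hx]
          _ = ∑ g ∈ supp, T • ((DirectSum.decompose ℳ x g : ℳ g) : M) := Finset.smul_sum
          _ = 0 := Finset.sum_eq_zero hz
  rw [key a, key b]

end Supp

section Main

variable {R : Type u} [CommRing R] [IsNoetherianRing R]

/-- depth via vanishing of Bass numbers -/
theorem le_depth_iff_bassNum (p : Ideal R) [p.IsPrime] (M : Type u) [AddCommGroup M] [Module R M]
    [Module.Finite R M] [Nontrivial (LocalizedModule p.primeCompl M)] (n : ℕ) :
    (n : ℕ∞) ≤ LocCoh.depth (Localization.AtPrime p) (LocalizedModule p.primeCompl M) ↔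
      ∀ i < n, GrLC.bassNum p M i = 0 := by
  rw [le_depth_iff]
  refine forall_congr' fun i => forall_congr' fun _ => ?_
  rw [bassNum_eq_length, Module.length_eq_zero_iff]

variable {ι : Type} [AddCommGroup ι] [DecidableEq ι] [Module.Free ℤ ι] [Module.Finite ℤ ι]
variable {𝒜 : ι → AddSubgroup R} [GradedRing 𝒜]
variable {M : Type u} [AddCommGroup M] [Module R M] (ℳ : ι → AddSubgroup M)
  [DirectSum.Decomposition ℳ] [SetLike.GradedSMul 𝒜 ℳ] [Module.Finite R M]
variable (q : HomogeneousIdeal 𝒜) [q.toIdeal.IsPrime] (p : Ideal R) [p.IsPrime]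
  (hqp : q.toIdeal ≤ p) (hcore : ∀ g, ∀ x ∈ 𝒜 g, x ∈ p → x ∈ q.toIdeal)

include ℳ hqp hcore in
theorem depth_core (d : ℕ) (hd : (p.map (Ideal.Quotient.mk q.toIdeal)).height = d) :
    LocCoh.depth (Localization.AtPrime p) (LocalizedModule p.primeCompl M) =
      LocCoh.depth (Localization.AtPrime q.toIdeal) (LocalizedModule q.toIdeal.primeCompl M) + d := by
  rcases subsingleton_or_nontrivial (LocalizedModule p.primeCompl M) with hs | hn
  · have := subsingleton_loc_core q p hqp hs
    rw [depth_eq_top_of_subsingleton, depth_eq_top_of_subsingleton, top_add]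
  · have := nontrivial_loc_core ℳ q p hcore hn
    obtain ⟨h0, hshift⟩ := bassNum_core 𝒜 ℳ q p hqp hcore d hd
    apply ENat.eq_of_forall_natCast_le_iff
    intro n
    rw [le_depth_iff_bassNum]
    rcases le_or_gt n d with hnd | hnd
    · constructor
      · intro _
        calc (n : ℕ∞) ≤ (d : ℕ∞) := by exact_mod_cast hnd
          _ ≤ _ := le_add_self
      · intro _ i hi
        exact h0 i (by omega)
    · obtain ⟨k, rfl⟩ : ∃ k, n = d + k := ⟨n - d, by omega⟩
      have hcast : ((d + k : ℕ) : ℕ∞) = (k : ℕ∞) + (d : ℕ∞) := by push_cast; rw [add_comm]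
      rw [hcast, ENat.add_le_add_iff_right (ENat.coe_ne_top d), le_depth_iff_bassNum]
      constructor
      · intro h j hj
        rw [← hshift j]
        exact h (d + j) (by omega)
      · intro h i hi
        rcases lt_or_ge i d with hid | hid
        · exact h0 i hid
        · obtain ⟨j, rfl⟩ : ∃ j, i = d + j := ⟨i - d, by omega⟩
          rw [hshift j]
          exact h j (by omega)

end Main

end Groth.Agent.H98.Bass1
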