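import Groth.Agent.H98.Bass1.MinShift

set_option autoImplicit false
universe u

/-!
# The chain of dimension shifts along a minimal *injective resolution
-/

namespace Groth.Agent.H98.Bass1

open CategoryTheory Abelian IsLocalRing Groth.Agent.H98.GrStar Groth.Agent.H98.Bass0

section Congr

variable {A : Type u} [CommRing A]

/-- transport of `Ext` along an isomorphism in the second variable -/
noncomputable def extCongrRight {N N' : Type u} [AddCommGroup N] [Module A N] [AddCommGroup N']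
    [Module A N'] (e : N ≃ₗ[A] N') (K : ModuleCat.{u} A) (i : ℕ) :
    Ext.{u} K (ModuleCat.of A N) i ≃ₗ[A] Ext.{u} K (ModuleCat.of A N') i where
  toFun x := x.comp (Ext.mk₀ e.toModuleIso.hom) (add_zero i)
  invFun x := x.comp (Ext.mk₀ e.toModuleIso.inv) (add_zero i)
  map_add' x y := Ext.add_comp x y _ _
  map_smul' a x := Ext.smul_comp x _ _ a
  left_inv x := by
    change (x.comp (Ext.mk₀ e.toModuleIso.hom) (add_zero i)).comp (Ext.mk₀ e.toModuleIso.inv)
      (add_zero i) = x
    rw [Ext.comp_assoc_of_third_deg_zero, Ext.mk₀_comp_mk₀, e.toModuleIso.hom_inv_id,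
      Ext.comp_mk₀_id]
  right_inv x := by
    change (x.comp (Ext.mk₀ e.toModuleIso.inv) (add_zero i)).comp (Ext.mk₀ e.toModuleIso.hom)
      (add_zero i) = x
    rw [Ext.comp_assoc_of_third_deg_zero, Ext.mk₀_comp_mk₀, e.toModuleIso.inv_hom_id,
      Ext.comp_mk₀_id]

variable {S : ShortComplex (ModuleCat.{u} A)} (hS : S.ShortExact) (K : ModuleCat.{u} A)

/-- `Hom(K, X₁) ≅ Hom(K, X₂)` when every map `K → X₂` is killed by `X₂ → X₃` -/
noncomputable def zeroEquiv (h0 : ∀ φ : K ⟶ S.X₂, φ ≫ S.g = 0) :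
    Ext.{u} K S.X₁ 0 ≃ₗ[A] Ext.{u} K S.X₂ 0 :=
  LinearEquiv.ofBijective
    { toFun := fun x => x.comp (Ext.mk₀ S.f) (add_zero 0)
      map_add' := fun x y => Ext.add_comp x y _ _
      map_smul' := fun a x => Ext.smul_comp x _ _ a }
    ⟨by
      have : Mono S.f := hS.mono_f
      exact Ext.postcomp_mk₀_injective_of_mono K S.f, by
      intro x₂
      obtain ⟨φ, rfl⟩ := (Ext.mk₀_bijective _ _).2 x₂
      have h1 : (Ext.mk₀ φ).comp (Ext.mk₀ S.g) (add_zero 0) = 0 := by
        rw [Ext.mk₀_comp_mk₀, h0 φ, Ext.mk₀_zero]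
      obtain ⟨x₁, hx₁⟩ := Ext.covariant_sequence_exact₂ K hS (Ext.mk₀ φ) h1
      exact ⟨x₁, hx₁⟩⟩

/-- the connecting isomorphism `Ext^j(K, X₃) ≅ Ext^{j+1}(K, X₁)` -/
noncomputable def deltaEquiv (hvan : ∀ i : ℕ, 1 ≤ i → Subsingleton (Ext.{u} K S.X₂ i))
    (h0 : ∀ φ : K ⟶ S.X₂, φ ≫ S.g = 0) (j : ℕ) :
    Ext.{u} K S.X₃ j ≃ₗ[A] Ext.{u} K S.X₁ (j + 1) :=
  LinearEquiv.ofBijective (deltaL hS K j)
    ⟨by
      cases j with
      | zero => exact deltaL_zero_injective hS h0
      | succ j => exact deltaL_injective_of_subsingleton hS (j + 1) (hvan (j + 1) (by omega)),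
     deltaL_surjective hS j (hvan (j + 1) (by omega))⟩

end Congr


section Chain

variable {ι : Type} [AddCommGroup ι] [DecidableEq ι]
variable {R : Type u} [CommRing R] [IsNoetherianRing R] {𝒜 : ι → AddSubgroup R} [GradedRing 𝒜]
variable {M : Type u} [AddCommGroup M] [Module R M] {ℳ : ι → AddSubgroup M}
  [DirectSum.Decomposition ℳ] [SetLike.GradedSMul 𝒜 ℳ]
variable (E : GrLC.StarInjRes 𝒜 ℳ)
variable (q : HomogeneousIdeal 𝒜) [q.toIdeal.IsPrime] (p : Ideal R) [p.IsPrime]
  (hqp : q.toIdeal ≤ p) (hcore : ∀ g, ∀ x ∈ 𝒜 g, x ∈ p → x ∈ q.toIdeal)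

/-- the chosen maximal independent family of homogeneous socle elements of `X^m` -/
noncomputable def LamSet (m : ℕ) : Set (E.X m).carrier := (exists_maximal (E.X m).gr q).choose

omit [IsNoetherianRing R] [q.toIdeal.IsPrime] in
theorem LamSet_spec (m : ℕ) :
    Maximal (fun Λ => Λ ⊆ socSet (E.X m).gr q ∧ QIndep q Λ) (LamSet E q m) :=
  (exists_maximal (E.X m).gr q).choose_spec

/-- the localized sequence `0 → Z^n_p → X^n_p → Z^{n+1}_p → 0` -/
noncomputable abbrev SZ (n : ℕ) : ShortComplex (ModuleCat.{u} (Localization.AtPrime p)) :=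
  locSC p.primeCompl (ZZ E n).subtype (dZ E n) (exact_subtype_dZ E n).linearMap_comp_eq_zero

theorem SZ_shortExact (n : ℕ) : (SZ E p n).ShortExact :=
  locSC_shortExact p.primeCompl _ _ (Submodule.injective_subtype _) (dZ_surjective E n)
    (exact_subtype_dZ E n)

include hqp hcore in
/-- `Hom(K, Z^m_p)` is free on the chosen family -/
theorem ext_zero_free (hE : IsMinimal E) (m : ℕ) :
    Nonempty (Ext.{u} (KK q p) (locObj p.primeCompl (ZZ E m)) 0 ≃ₗ[Localization.AtPrime p]
      (↥(LamSet E q m) →₀ TT q p)) := by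
  have e1 := zeroEquiv (SZ_shortExact E p m) (KK q p) (comp_dZ_eq_zero E q p hcore hE m)
  have e2 : Ext.{u} (KK q p) (locObj p.primeCompl (E.X m).carrier) 0 ≃ₗ[Localization.AtPrime p]
      (KK q p ⟶ locObj p.primeCompl (E.X m).carrier) :=
    Abelian.Ext.linearEquiv₀ (R := Localization.AtPrime p)
  have e3 : (KK q p ⟶ locObj p.primeCompl (E.X m).carrier) ≃ₗ[Localization.AtPrime p]
      (TT q p →ₗ[Localization.AtPrime p] LocalizedModule p.primeCompl (E.X m).carrier) :=
    ModuleCat.homLinearEquiv (S := Localization.AtPrime p)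
  have e4 := homQuotEquiv (QQ p q) (LocalizedModule p.primeCompl (E.X m).carrier)
  have e5 := annEquiv p hqp hcore (LamSet_spec E q m)
  exact ⟨e1.trans (e2.trans (e3.trans (e4.trans e5.symm)))⟩

include hqp hcore in
theorem ext_ZZ_equiv (hE : IsMinimal E) : ∀ (j n : ℕ),
    Nonempty (Ext.{u} (KK q p) (locObj p.primeCompl (ZZ E n)) j ≃ₗ[Localization.AtPrime p]
      Ext.{u} (KK q p) (locObj p.primeCompl (ZZ E (n + j))) 0) := by
  intro j
  induction j with
  | zero => exact fun n => ⟨LinearEquiv.refl _ _⟩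
  | succ j ih =>
    intro n
    obtain ⟨f⟩ := ih (n + 1)
    have e1 := deltaEquiv (SZ_shortExact E p n) (KK q p)
      (fun i hi => ext_KK_subsingleton q p hqp (E.X n) (E.starInj n) i hi)
      (comp_dZ_eq_zero E q p hcore hE n) j
    have hidx : n + (j + 1) = n + 1 + j := by omega
    rw [hidx]
    exact ⟨e1.symm.trans f⟩

/-- `M ≅ Z^0` -/
noncomputable def augEquiv : M ≃ₗ[R] ZZ E 0 :=
  (LinearEquiv.ofInjective E.ε E.ε_injective).trans (LinearEquiv.ofEq _ _ E.exact_zero.symm)

/-- localization of a linear equivalence -/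
noncomputable def locEquiv {N N' : Type u} [AddCommGroup N] [Module R N] [AddCommGroup N']
    [Module R N'] (S : Submonoid R) (e : N ≃ₗ[R] N') :
    LocalizedModule S N ≃ₗ[Localization S] LocalizedModule S N' :=
  LinearEquiv.ofLinearMap (LocalizedModule.map S e.toLinearMap) (LocalizedModule.map S e.symm.toLinearMap)
    (by rw [map_comp_map]; simp) (by rw [map_comp_map]; simp)

include hqp hcore in
/-- along a minimal *injective resolution, `Ext^j(R_p ⧸ q R_p, M_p)` is free over `R_p ⧸ q R_p` on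
the chosen family of homogeneous socle elements of `X^j` -/
theorem freeExt_loc (hE : IsMinimal E) :
    FreeExt (locObj p.primeCompl M) (fun j => ↥(LamSet E q j)) 0 (TT q p) := by
  refine ⟨fun i hi => absurd hi (Nat.not_lt_zero i), fun j => ?_⟩
  obtain ⟨f⟩ := ext_ZZ_equiv E q p hqp hcore hE (0 + j) 0
  obtain ⟨g⟩ := ext_zero_free E q p hqp hcore hE (0 + (0 + j))
  have e0 : Ext.{u} (KK q p) (locObj p.primeCompl M) (0 + j) ≃ₗ[Localization.AtPrime p]
      Ext.{u} (KK q p) (locObj p.primeCompl (ZZ E 0)) (0 + j) :=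
    extCongrRight (locEquiv p.primeCompl (augEquiv E)) (KK q p) (0 + j)
  have hj : 0 + (0 + j) = j := by omega
  rw [hj] at f g
  exact ⟨e0.trans (f.trans g)⟩

end Chain

end Groth.Agent.H98.Bass1
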