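import Mathlib

set_option autoImplicit false
universe u v w

/-!
# Maps out of `A ⧸ Q` and free `A ⧸ Q`-modules inside an `A`-module
-/

namespace Groth.Agent.H98.Bass1

section HomQuot

variable {A : Type u} [CommRing A] (Q : Ideal A) (W : Type v) [AddCommGroup W] [Module A W]

/-- the elements killed by `Q` -/
def annSub : Submodule A W where
  carrier := {x | ∀ a ∈ Q, a • x = 0}
  add_mem' {x y} hx hy a ha := by rw [smul_add, hx a ha, hy a ha, add_zero]
  zero_mem' a _ := smul_zero a
  smul_mem' b x hx a ha := by rw [smul_comm, hx a ha, smul_zero]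

variable {Q W}

theorem mem_annSub {x : W} : x ∈ annSub Q W ↔ ∀ a ∈ Q, a • x = 0 := Iff.rfl

/-- the map `A ⧸ Q → W`, `1 ↦ x`, for `x` killed by `Q` -/
def quotMap (x : annSub Q W) : (A ⧸ Q) →ₗ[A] W :=
  Submodule.liftQ Q (LinearMap.toSpanSingleton A W x.1) (by
    intro a ha
    rw [LinearMap.mem_ker, LinearMap.toSpanSingleton_apply]
    exact x.2 a ha)

theorem quotMap_mk (x : annSub Q W) (a : A) :
    quotMap x (Submodule.Quotient.mk a) = a • (x : W) := rfl

theorem quotMap_mk' (x : annSub Q W) (a : A) :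
    quotMap x (Ideal.Quotient.mk Q a) = a • (x : W) := rfl

variable (Q W) in
/-- `Hom_A(A ⧸ Q, W) ≅ (0 :_W Q)` -/
def homQuotEquiv : ((A ⧸ Q) →ₗ[A] W) ≃ₗ[A] annSub Q W where
  toFun φ := ⟨φ 1, fun a ha => by
    rw [← map_smul]
    have : a • (1 : A ⧸ Q) = 0 := by
      change a • (Ideal.Quotient.mk Q 1) = 0
      rw [← Ideal.Quotient.mk_eq_mk, ← Submodule.Quotient.mk_smul, Submodule.Quotient.mk_eq_zero]
      simpa using ha
    rw [this, map_zero]⟩
  map_add' φ ψ := rfl
  map_smul' a φ := rfl
  invFun x := quotMap x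
  left_inv φ := by
    apply LinearMap.ext
    intro z
    obtain ⟨a, rfl⟩ := Submodule.Quotient.mk_surjective _ z
    rw [quotMap_mk]
    change a • φ 1 = _
    rw [← map_smul]
    congr 1
    change a • (Ideal.Quotient.mk Q 1) = _
    rw [← Ideal.Quotient.mk_eq_mk, ← Submodule.Quotient.mk_smul, smul_eq_mul, mul_one]
  right_inv x := by
    apply Subtype.ext
    change quotMap x (Ideal.Quotient.mk Q 1) = _
    rw [quotMap_mk', one_smul]

theorem homQuotEquiv_apply (φ : (A ⧸ Q) →ₗ[A] W) : (homQuotEquiv Q W φ : W) = φ 1 := rfl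

variable {Λ : Type w} (v : Λ → annSub Q W)

/-- the map `(Λ →₀ A ⧸ Q) → W` given by a family of elements killed by `Q` -/
noncomputable def famMap : (Λ →₀ A ⧸ Q) →ₗ[A] W :=
  Finsupp.lsum A fun l => quotMap (v l)

theorem famMap_single (l : Λ) (z : A ⧸ Q) : famMap v (Finsupp.single l z) = quotMap (v l) z := by
  unfold famMap
  rw [Finsupp.lsum_single]

theorem famMap_mapRange (c : Λ →₀ A) :
    famMap v (Finsupp.mapRange (Submodule.Quotient.mk (p := Q)) (by simp) c) =
      Finsupp.linearCombination A (fun l => (v l : W)) c := by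
  induction c using Finsupp.induction_linear with
  | zero => simp
  | add f g hf hg =>
    rw [Finsupp.mapRange_add (by intro a b; simp), map_add, map_add, hf, hg]
  | single l a =>
    rw [Finsupp.mapRange_single, famMap_single, Finsupp.linearCombination_single]
    rfl

theorem exists_mapRange_eq (f : Λ →₀ A ⧸ Q) :
    ∃ c : Λ →₀ A, Finsupp.mapRange (Submodule.Quotient.mk (p := Q)) (by simp) c = f := by
  induction f using Finsupp.induction_linear with
  | zero => exact ⟨0, by simp⟩
  | add f g hf hg =>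
    obtain ⟨c, rfl⟩ := hf
    obtain ⟨d, rfl⟩ := hg
    exact ⟨c + d, Finsupp.mapRange_add (by intro a b; simp) c d⟩
  | single l z =>
    obtain ⟨a, rfl⟩ := Submodule.Quotient.mk_surjective _ z
    exact ⟨Finsupp.single l a, Finsupp.mapRange_single⟩

theorem famMap_mem (f : Λ →₀ A ⧸ Q) : famMap v f ∈ annSub Q W := by
  obtain ⟨c, rfl⟩ := exists_mapRange_eq f
  rw [famMap_mapRange, Finsupp.linearCombination_apply]
  exact Submodule.sum_mem _ fun l _ => Submodule.smul_mem _ _ (v l).2

theorem famMap_injective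
    (hind : ∀ c : Λ →₀ A, Finsupp.linearCombination A (fun l => (v l : W)) c = 0 → ∀ l, c l ∈ Q) :
    Function.Injective (famMap v) := by
  rw [injective_iff_map_eq_zero]
  intro f hf
  obtain ⟨c, rfl⟩ := exists_mapRange_eq f
  rw [famMap_mapRange] at hf
  ext l
  rw [Finsupp.mapRange_apply, Finsupp.zero_apply, Submodule.Quotient.mk_eq_zero]
  exact hind c hf l

theorem range_famMap
    (hspan : annSub Q W ≤ Submodule.span A (Set.range fun l => (v l : W))) :
    LinearMap.range (famMap v) = annSub Q W := by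
  apply le_antisymm
  · rintro _ ⟨f, rfl⟩
    exact famMap_mem v f
  · intro x hx
    have := hspan hx
    rw [Finsupp.mem_span_range_iff_exists_finsupp] at this
    obtain ⟨c, hc⟩ := this
    refine ⟨Finsupp.mapRange (Submodule.Quotient.mk (p := Q)) (by simp) c, ?_⟩
    rw [famMap_mapRange, Finsupp.linearCombination_apply]
    exact hc

/-- `(0 :_W Q)` is free over `A ⧸ Q` on an independent spanning family -/
noncomputable def famEquiv
    (hind : ∀ c : Λ →₀ A, Finsupp.linearCombination A (fun l => (v l : W)) c = 0 → ∀ l, c l ∈ Q)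
    (hspan : annSub Q W ≤ Submodule.span A (Set.range fun l => (v l : W))) :
    (Λ →₀ A ⧸ Q) ≃ₗ[A] annSub Q W :=
  (LinearEquiv.ofInjective (famMap v) (famMap_injective v hind)).trans
    (LinearEquiv.ofEq _ _ (range_famMap v hspan))

theorem famEquiv_apply
    (hind : ∀ c : Λ →₀ A, Finsupp.linearCombination A (fun l => (v l : W)) c = 0 → ∀ l, c l ∈ Q)
    (hspan : annSub Q W ≤ Submodule.span A (Set.range fun l => (v l : W))) (f : Λ →₀ A ⧸ Q) :
    (famEquiv v hind hspan f : W) = famMap v f := rfl

end HomQuot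

end Groth.Agent.H98.Bass1
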