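import Groth.Agent.H98.Bass1.LocQuot
import Groth.Agent.H98.Bass1.HomQuot

set_option autoImplicit false
universe u

/-!
# `(0 :_{X_p} q)` is free over `R_p ⧸ q R_p` for a graded module `X`
-/

namespace Groth.Agent.H98.Bass1

open CategoryTheory Abelian Groth.Agent.H98.GrStar Groth.Agent.H98.Bass0

section AnnFree

variable {ι : Type} [AddCommGroup ι] [DecidableEq ι]
variable {R : Type u} [CommRing R] {𝒜 : ι → AddSubgroup R} [GradedRing 𝒜]
variable {X : Type u} [AddCommGroup X] [Module R X] {𝒳 : ι → AddSubgroup X}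
  [DirectSum.Decomposition 𝒳] [SetLike.GradedSMul 𝒜 𝒳]
variable (q : HomogeneousIdeal 𝒜) [q.toIdeal.IsPrime] (p : Ideal R) [p.IsPrime]
  (hqp : q.toIdeal ≤ p) (hcore : ∀ g, ∀ x ∈ 𝒜 g, x ∈ p → x ∈ q.toIdeal)

omit [DirectSum.Decomposition 𝒳] [SetLike.GradedSMul 𝒜 𝒳] [q.toIdeal.IsPrime] in
theorem mk1_mem_annSub {y : X} (hy : ∀ r ∈ q.toIdeal, r • y = 0) :
    mk1 p y ∈ annSub (QQ p q) (LocalizedModule p.primeCompl X) := by
  have hle : QQ p q ≤ LinearMap.ker (LinearMap.toSpanSingleton (Localization.AtPrime p)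
      (LocalizedModule p.primeCompl X) (mk1 p y)) := by
    rw [Ideal.map_le_iff_le_comap]
    intro r hr
    rw [Ideal.mem_comap, LinearMap.mem_ker, LinearMap.toSpanSingleton_apply, algebraMap_smul_mk,
      hy r hr, LocalizedModule.zero_mk]
  intro a ha
  have := hle ha
  rwa [LinearMap.mem_ker, LinearMap.toSpanSingleton_apply] at this

variable {q}

/-- the basis family -/
def basisFam {Λ : Set X} (hΛ : Λ ⊆ socSet 𝒳 q) :
    ↥Λ → annSub (QQ p q) (LocalizedModule p.primeCompl X) :=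
  fun y => ⟨mk1 p y.1, mk1_mem_annSub q p (hΛ y.2).2⟩

omit [DirectSum.Decomposition 𝒳] [SetLike.GradedSMul 𝒜 𝒳] in
include hqp in
theorem basisFam_indep {Λ : Set X} (hΛ : Λ ⊆ socSet 𝒳 q) (hind : QIndep q Λ)
    (c : ↥Λ →₀ Localization.AtPrime p)
    (hc : Finsupp.linearCombination (Localization.AtPrime p)
      (fun l => (basisFam p hΛ l : LocalizedModule p.primeCompl X)) c = 0) :
    ∀ l, c l ∈ QQ p q := by
  classical
  have h1 : Finsupp.linearCombination (Localization.AtPrime p) (mk1 (X := X) p)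
      (Finsupp.mapDomain Subtype.val c) = 0 := by
    rw [Finsupp.linearCombination_mapDomain]
    exact hc
  have h2 : (↑(Finsupp.mapDomain (Subtype.val : ↥Λ → X) c).support : Set X) ⊆ Λ := by
    intro z hz
    have := Finsupp.mapDomain_support (Finset.mem_coe.mp hz)
    rw [Finset.mem_image] at this
    obtain ⟨l, _, rfl⟩ := this
    exact l.2
  intro l
  have := loc_indep p hqp hind _ h2 h1 l.1
  rwa [Finsupp.mapDomain_apply Subtype.val_injective] at this

include hcore in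
theorem basisFam_span [IsNoetherianRing R] {Λ : Set X}
    (hΛ : Maximal (fun Λ => Λ ⊆ socSet 𝒳 q ∧ QIndep q Λ) Λ) :
    annSub (QQ p q) (LocalizedModule p.primeCompl X) ≤
      Submodule.span (Localization.AtPrime p)
        (Set.range fun l => (basisFam p hΛ.prop.1 l : LocalizedModule p.primeCompl X)) := by
  intro x hx
  have h1 := loc_span p hcore hΛ x hx
  have h2 : mk1 (X := X) p '' Λ =
      Set.range fun l => (basisFam p hΛ.prop.1 l : LocalizedModule p.primeCompl X) := by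
    ext z
    constructor
    · rintro ⟨y, hy, rfl⟩
      exact ⟨⟨y, hy⟩, rfl⟩
    · rintro ⟨l, rfl⟩
      exact ⟨l.1, l.2, rfl⟩
  rwa [h2] at h1

/-- `(0 :_{X_p} q)` is free over `R_p ⧸ q R_p` -/
noncomputable def annEquiv [IsNoetherianRing R] {Λ : Set X}
    (hΛ : Maximal (fun Λ => Λ ⊆ socSet 𝒳 q ∧ QIndep q Λ) Λ) :
    (↥Λ →₀ TT q p) ≃ₗ[Localization.AtPrime p] annSub (QQ p q) (LocalizedModule p.primeCompl X) :=
  famEquiv (basisFam p hΛ.prop.1) (basisFam_indep p hqp hΛ.prop.1 hΛ.prop.2)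
    (basisFam_span p hcore hΛ)

end AnnFree

end Groth.Agent.H98.Bass1
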