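import Groth.Agent.H98.Bass1.ShiftChain

set_option autoImplicit false
universe u

/-!
# Bass numbers at a prime `p` versus its homogeneous core `q`, given a regular sequence on
`R_p ⧸ q R_p` generating the maximal ideal
-/

namespace Groth.Agent.H98.Bass1

open CategoryTheory Abelian IsLocalRing Groth.Agent.H98.GrStar Groth.Agent.H98.Bass0

section Count

variable {ι : Type} [AddCommGroup ι] [DecidableEq ι]
variable {R : Type u} [CommRing R] [IsNoetherianRing R] {𝒜 : ι → AddSubgroup R} [GradedRing 𝒜]
variable {M : Type u} [AddCommGroup M] [Module R M] {ℳ : ι → AddSubgroup M}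
  [DirectSum.Decomposition ℳ] [SetLike.GradedSMul 𝒜 ℳ]
variable (E : GrLC.StarInjRes 𝒜 ℳ)
variable (q : HomogeneousIdeal 𝒜) [q.toIdeal.IsPrime] (p : Ideal R) [p.IsPrime]
  (hqp : q.toIdeal ≤ p) (hcore : ∀ g, ∀ x ∈ 𝒜 g, x ∈ p → x ∈ q.toIdeal)

omit [IsNoetherianRing R] in
theorem annSub_eq_soc (X : Type u) [AddCommGroup X] [Module R X] :
    annSub (QQ q.toIdeal q) (LocalizedModule q.toIdeal.primeCompl X) =
      soc (Localization.AtPrime q.toIdeal) (LocalizedModule q.toIdeal.primeCompl X) := by
  ext x
  have : QQ q.toIdeal q = maximalIdeal (Localization.AtPrime q.toIdeal) :=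
    Localization.AtPrime.map_eq_maximalIdeal
  rw [mem_soc_iff, mem_annSub, this]

omit [IsNoetherianRing R] in
theorem isSimpleModule_TT : IsSimpleModule (Localization.AtPrime q.toIdeal) (TT q q.toIdeal) := by
  rw [isSimpleModule_iff_isCoatom]
  have : QQ q.toIdeal q = maximalIdeal (Localization.AtPrime q.toIdeal) :=
    Localization.AtPrime.map_eq_maximalIdeal
  rw [this]
  exact Ideal.isMaximal_def.mp inferInstance

/-- the socle length of `(X^j)_q` is the cardinality of the chosen family -/
theorem socLen_eq_card (j : ℕ) : socLen q E j = ENat.card ↥(LamSet E q j) := by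
  have e1 : (↥(LamSet E q j) →₀ TT q q.toIdeal) ≃ₗ[Localization.AtPrime q.toIdeal]
      annSub (QQ q.toIdeal q) (LocalizedModule q.toIdeal.primeCompl (E.X j).carrier) :=
    annEquiv q.toIdeal le_rfl (fun _ _ _ h => h) (LamSet_spec E q j)
  have e2 : annSub (QQ q.toIdeal q) (LocalizedModule q.toIdeal.primeCompl (E.X j).carrier)
      ≃ₗ[Localization.AtPrime q.toIdeal]
      soc (Localization.AtPrime q.toIdeal) (LocalizedModule q.toIdeal.primeCompl (E.X j).carrier) :=
    LinearEquiv.ofEq _ _ (annSub_eq_soc q (E.X j).carrier)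
  unfold socLen
  rw [← (e1.trans e2).length_eq, Module.length_finsupp]
  have := isSimpleModule_TT q
  rw [Module.length_eq_one, mul_one]

include hqp hcore in
/-- the main comparison, given a regular sequence -/
theorem bassNum_shift (hE : IsMinimal E) (rs : List (Localization.AtPrime p))
    (hreg : RingTheory.Sequence.IsWeaklyRegular (TT q p) rs)
    (e : (TT q p ⧸ (Ideal.ofList rs • ⊤ : Submodule (Localization.AtPrime p) (TT q p)))
      ≃ₗ[Localization.AtPrime p] ResidueField (Localization.AtPrime p)) :
    (∀ i : ℕ, i < rs.length → GrLC.bassNum p M i = 0) ∧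
      ∀ j : ℕ, GrLC.bassNum p M (rs.length + j) = GrLC.bassNum q.toIdeal M j := by
  have h1 := (freeExt_loc E q p hqp hcore hE).of_isWeaklyRegular rs (TT q p) 0 hreg
  have h2 := h1.congr e
  constructor
  · intro i hi
    rw [bassNum_eq_length, Module.length_eq_zero_iff]
    exact h2.1 i (by omega)
  · intro j
    obtain ⟨f⟩ := h2.2 j
    rw [hE.bassNum_eq q j, socLen_eq_card, bassNum_eq_length]
    have hidx : rs.length + j = 0 + rs.length + j := by omega
    rw [hidx, f.length_eq, Module.length_finsupp, Module.length_eq_one, mul_one]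

end Count

end Groth.Agent.H98.Bass1
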