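import Mathlib

set_option autoImplicit false
universe u

/-!
# `Ext` out of `T ⧸ rT` for an element `r` regular on `T`
-/

namespace Groth.Agent.H98.Bass1

open CategoryTheory Abelian Pointwise

section Quot

variable {A : Type u} [CommRing A] (T : Type u) [AddCommGroup T] [Module A T] (r : A)

/-- the short complex `T --r--> T --> T ⧸ rT` -/
noncomputable abbrev mulSC : ShortComplex (ModuleCat.{u} A) :=
  ModuleCat.shortComplexOfCompEqZero (LinearMap.lsmul A T r)
    (Submodule.mkQ (r • (⊤ : Submodule A T))) (by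
      apply LinearMap.ext
      intro x
      rw [LinearMap.comp_apply, LinearMap.zero_apply, Submodule.mkQ_apply,
        Submodule.Quotient.mk_eq_zero]
      exact Submodule.smul_mem_pointwise_smul x r ⊤ Submodule.mem_top)

variable {T r}

theorem mulSC_shortExact (hr : IsSMulRegular T r) : (mulSC T r).ShortExact := by
  apply ModuleCat.shortComplex_shortExact
  · intro y
    constructor
    · intro hy
      have hy' : y ∈ r • (⊤ : Submodule A T) := by
        rw [← Submodule.ker_mkQ (r • (⊤ : Submodule A T))]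
        exact hy
      obtain ⟨x, -, hx⟩ := hy'
      exact ⟨x, hx⟩
    · rintro ⟨x, rfl⟩
      change Submodule.mkQ _ (r • x) = 0
      rw [Submodule.mkQ_apply, Submodule.Quotient.mk_eq_zero]
      exact Submodule.smul_mem_pointwise_smul x r ⊤ Submodule.mem_top
  · exact hr
  · exact Submodule.mkQ_surjective _

variable (N : ModuleCat.{u} A)

theorem mk₀_f_comp (n : ℕ) (x : Ext.{u} (mulSC T r).X₂ N n) :
    (Ext.mk₀ (mulSC T r).f).comp x (zero_add n) = r • x := by
  have h1 : (mulSC T r).f = r • 𝟙 (ModuleCat.of A T) := by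
    ext x
    rfl
  rw [h1, Ext.mk₀_smul, Ext.smul_comp, Ext.mk₀_id_comp]

/-- the connecting map `Ext^n(T, N) → Ext^{n+1}(T ⧸ rT, N)` -/
noncomputable def bdry (hr : IsSMulRegular T r) (n : ℕ) :
    Ext.{u} (ModuleCat.of A T) N n →ₗ[A] Ext.{u} (ModuleCat.of A (QuotSMulTop r T)) N (n + 1) where
  toFun x := (mulSC_shortExact hr).extClass.comp x (add_comm 1 n)
  map_add' x y := Ext.comp_add _ x y _
  map_smul' a x := Ext.comp_smul _ x _ a

theorem bdry_surjective (hr : IsSMulRegular T r) (n : ℕ)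
    (hinj : IsSMulRegular (Ext.{u} (ModuleCat.of A T) N (n + 1)) r) :
    Function.Surjective (bdry N hr n) := by
  intro x₃
  have hS := mulSC_shortExact (A := A) hr
  have h2 : (Ext.mk₀ (mulSC T r).g).comp x₃ (zero_add (n + 1)) = 0 := by
    apply hinj
    change r • _ = r • (0 : Ext.{u} (ModuleCat.of A T) N (n + 1))
    rw [smul_zero, ← mk₀_f_comp, ← Ext.comp_assoc_of_second_deg_zero, Ext.mk₀_comp_mk₀,
      (mulSC T r).zero, Ext.mk₀_zero, Ext.zero_comp]
  obtain ⟨x₁, hx₁⟩ := Ext.contravariant_sequence_exact₃ hS N x₃ h2 (add_comm 1 n)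
  exact ⟨x₁, hx₁⟩

theorem ker_bdry (hr : IsSMulRegular T r) (n : ℕ) :
    LinearMap.ker (bdry N hr n) = r • (⊤ : Submodule A (Ext.{u} (ModuleCat.of A T) N n)) := by
  have hS := mulSC_shortExact (A := A) hr
  apply le_antisymm
  · intro x hx
    obtain ⟨x₂, hx₂⟩ := Ext.contravariant_sequence_exact₁ hS N x (add_comm 1 n) hx
    rw [mk₀_f_comp] at hx₂
    rw [← hx₂]
    exact Submodule.smul_mem_pointwise_smul x₂ r ⊤ Submodule.mem_top
  · rintro _ ⟨x₂, -, rfl⟩
    change bdry N hr n (r • x₂) = 0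
    rw [map_smul]
    change r • (hS.extClass.comp x₂ (add_comm 1 n)) = 0
    rw [← Ext.comp_smul, ← mk₀_f_comp, ← Ext.comp_assoc_of_second_deg_zero,
      ShortComplex.ShortExact.extClass_comp, Ext.zero_comp]

/-- `Ext^{n+1}(T ⧸ rT, N) ≅ Ext^n(T, N) ⧸ r` when `r` is regular on `T` and on `Ext^{n+1}(T, N)` -/
noncomputable def extQuotEquiv (hr : IsSMulRegular T r) (n : ℕ)
    (hinj : IsSMulRegular (Ext.{u} (ModuleCat.of A T) N (n + 1)) r) :
    QuotSMulTop r (Ext.{u} (ModuleCat.of A T) N n) ≃ₗ[A]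
      Ext.{u} (ModuleCat.of A (QuotSMulTop r T)) N (n + 1) :=
  (Submodule.quotEquivOfEq _ _ (ker_bdry N hr n).symm).trans
    ((bdry N hr n).quotKerEquivOfSurjective (bdry_surjective N hr n hinj))

theorem ext_quot_zero_subsingleton (hr : IsSMulRegular T r)
    (hinj : IsSMulRegular (Ext.{u} (ModuleCat.of A T) N 0) r) :
    Subsingleton (Ext.{u} (ModuleCat.of A (QuotSMulTop r T)) N 0) := by
  have hS := mulSC_shortExact (A := A) hr
  have : Epi (mulSC T r).g := hS.epi_g
  refine ⟨fun a b => ?_⟩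
  have key : ∀ x₃ : Ext.{u} (ModuleCat.of A (QuotSMulTop r T)) N 0, x₃ = 0 := by
    intro x₃
    have h2 : (Ext.mk₀ (mulSC T r).g).comp x₃ (zero_add 0) = 0 := by
      apply hinj
      change r • _ = r • (0 : Ext.{u} (ModuleCat.of A T) N 0)
      rw [smul_zero, ← mk₀_f_comp, ← Ext.comp_assoc_of_second_deg_zero, Ext.mk₀_comp_mk₀,
        (mulSC T r).zero, Ext.mk₀_zero, Ext.zero_comp]
    apply Ext.precomp_mk₀_injective_of_epi N (mulSC T r).g
    change (Ext.mk₀ (mulSC T r).g).comp x₃ (zero_add 0) = (Ext.mk₀ (mulSC T r).g).comp 0 (zero_add 0)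
    rw [h2, Ext.comp_zero]
  rw [key a, key b]

end Quot

end Groth.Agent.H98.Bass1
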