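import Mathlib

set_option autoImplicit false
universe u

/-!
# Homogeneous fractions in a ring `B` receiving a graded ring `R` whose homogeneous elements outside
a homogeneous prime `q = ker` become units
-/

namespace Groth.Agent.H98.Bass1

open DirectSum

section GrFrac

variable {ι : Type} [AddCommGroup ι] [DecidableEq ι]
variable {R : Type u} [CommRing R] {𝒜 : ι → AddSubgroup R} [GradedRing 𝒜]
variable (q : HomogeneousIdeal 𝒜)
variable {B : Type u} [CommRing B] (φ : R →+* B)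

/-- the hypotheses: `ker φ = q`, homogeneous elements outside `q` become units, and every element of
`B` is a fraction -/
structure IsGrFrac : Prop where
  ker : ∀ x, φ x = 0 ↔ x ∈ q.toIdeal
  unit : ∀ g, ∀ x ∈ 𝒜 g, x ∉ q.toIdeal → IsUnit (φ x)
  surj : ∀ b : B, ∃ x y : R, IsUnit (φ y) ∧ b * φ y = φ x

/-- homogeneous fractions of degree `g` -/
def WW [q.toIdeal.IsPrime] (g : ι) : AddSubgroup B where
  carrier := {b | ∃ g₂ : ι, ∃ x ∈ 𝒜 (g + g₂), ∃ y ∈ 𝒜 g₂, y ∉ q.toIdeal ∧ b * φ y = φ x}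
  zero_mem' := ⟨0, 0, zero_mem _, 1, SetLike.GradedOne.one_mem,
    (Ideal.ne_top_iff_one _).mp (Ideal.IsPrime.ne_top ‹_›), by simp⟩
  add_mem' := by
    rintro b b' ⟨g₂, x, hx, y, hy, hyq, h⟩ ⟨g₂', x', hx', y', hy', hyq', h'⟩
    refine ⟨g₂ + g₂', x * y' + x' * y, ?_, y * y', SetLike.mul_mem_graded hy hy', ?_, ?_⟩
    · apply add_mem
      · have := SetLike.mul_mem_graded hx hy'
        rwa [add_assoc] at this
      · have := SetLike.mul_mem_graded hx' hy
        rwa [add_assoc, add_comm g₂' g₂] at this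
    · intro hmem
      rcases Ideal.IsPrime.mem_or_mem ‹_› hmem with h1 | h1
      · exact hyq h1
      · exact hyq' h1
    · rw [map_mul, map_add, map_mul, map_mul, ← h, ← h']
      ring
  neg_mem' := by
    rintro b ⟨g₂, x, hx, y, hy, hyq, h⟩
    exact ⟨g₂, -x, neg_mem hx, y, hy, hyq, by rw [map_neg, ← h, neg_mul]⟩

variable [q.toIdeal.IsPrime]

theorem mem_WW {g : ι} {b : B} : b ∈ WW q φ g ↔
    ∃ g₂ : ι, ∃ x ∈ 𝒜 (g + g₂), ∃ y ∈ 𝒜 g₂, y ∉ q.toIdeal ∧ b * φ y = φ x := Iff.rfl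

theorem map_mem_WW {g : ι} {x : R} (hx : x ∈ 𝒜 g) : φ x ∈ WW q φ g :=
  ⟨0, x, by rwa [add_zero], 1, SetLike.GradedOne.one_mem,
    (Ideal.ne_top_iff_one _).mp (Ideal.IsPrime.ne_top ‹_›), by simp⟩

theorem one_mem_WW : (1 : B) ∈ WW q φ 0 := by
  have := map_mem_WW q φ (SetLike.GradedOne.one_mem : (1 : R) ∈ 𝒜 0)
  rwa [map_one] at this

theorem mul_mem_WW {g h : ι} {b b' : B} (hb : b ∈ WW q φ g) (hb' : b' ∈ WW q φ h) :
    b * b' ∈ WW q φ (g + h) := by
  obtain ⟨g₂, x, hx, y, hy, hyq, e⟩ := hb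
  obtain ⟨g₂', x', hx', y', hy', hyq', e'⟩ := hb'
  refine ⟨g₂ + g₂', x * x', ?_, y * y', SetLike.mul_mem_graded hy hy', ?_, ?_⟩
  · have := SetLike.mul_mem_graded hx hx'
    have h2 : g + g₂ + (h + g₂') = g + h + (g₂ + g₂') := by abel
    rwa [h2] at this
  · intro hmem
    rcases Ideal.IsPrime.mem_or_mem ‹_› hmem with h1 | h1
    · exact hyq h1
    · exact hyq' h1
  · rw [map_mul, map_mul, ← e, ← e']
    ring

variable {q φ}

theorem IsGrFrac.isUnit_of_mem_WW (h : IsGrFrac q φ) {g : ι} {b : B} (hb : b ∈ WW q φ g)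
    (hb0 : b ≠ 0) : IsUnit b := by
  obtain ⟨g₂, x, hx, y, hy, hyq, e⟩ := hb
  have hxq : x ∉ q.toIdeal := by
    intro hxq
    rw [(h.ker x).mpr hxq] at e
    have hu := h.unit g₂ y hy hyq
    exact hb0 ((hu.mul_left_eq_zero).mp e)
  have hu : IsUnit (b * φ y) := by
    rw [e]
    exact h.unit _ x hx hxq
  exact isUnit_of_mul_isUnit_left hu

theorem IsGrFrac.inv_mem_WW [Nontrivial B] (h : IsGrFrac q φ) {g : ι} {b : Bˣ} (hb : (b : B) ∈ WW q φ g) :
    ((b⁻¹ : Bˣ) : B) ∈ WW q φ (-g) := by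
  obtain ⟨g₂, x, hx, y, hy, hyq, e⟩ := hb
  have hxq : x ∉ q.toIdeal := by
    intro hxq
    rw [(h.ker x).mpr hxq] at e
    have hu := h.unit g₂ y hy hyq
    exact b.ne_zero ((hu.mul_left_eq_zero).mp e)
  refine ⟨g + g₂, y, ?_, x, hx, hxq, ?_⟩
  · have : -g + (g + g₂) = g₂ := by abel
    rwa [this]
  · rw [← e, ← mul_assoc, Units.inv_mul, one_mul]

end GrFrac


section Indep

variable {ι : Type} [AddCommGroup ι] [DecidableEq ι]
variable {R : Type u} [CommRing R] {𝒜 : ι → AddSubgroup R} [GradedRing 𝒜]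
variable {q : HomogeneousIdeal 𝒜} [q.toIdeal.IsPrime]
variable {B : Type u} [CommRing B] {φ : R →+* B}

/-- the `k`-th component as an additive map -/
def projR (𝒜 : ι → AddSubgroup R) [GradedRing 𝒜] (k : ι) : R →+ R where
  toFun x := (DirectSum.decompose 𝒜 x k : R)
  map_zero' := by simp
  map_add' x y := by simp [DirectSum.decompose_add]

theorem projR_of_mem {k g : ι} {x : R} (hx : x ∈ 𝒜 g) :
    projR 𝒜 k x = if g = k then x else 0 := by
  change (DirectSum.decompose 𝒜 x k : R) = _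
  split_ifs with h
  · subst h
    rw [DirectSum.decompose_of_mem_same 𝒜 hx]
  · rw [DirectSum.decompose_of_mem_ne 𝒜 hx h]

theorem exists_common_denom {α : Type} [DecidableEq α] (s : Finset α) (deg : α → ι) (b : α → B)
    (hb : ∀ a ∈ s, b a ∈ WW q φ (deg a)) :
    ∃ (c : ι) (Y : R) (z : α → R), Y ∈ 𝒜 c ∧ Y ∉ q.toIdeal ∧
      ∀ a ∈ s, z a ∈ 𝒜 (deg a + c) ∧ b a * φ Y = φ (z a) := by
  induction s using Finset.induction_on with
  | empty =>
    exact ⟨0, 1, fun _ => 0, SetLike.GradedOne.one_mem,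
      (Ideal.ne_top_iff_one _).mp (Ideal.IsPrime.ne_top ‹_›), by simp⟩
  | insert a₀ s ha₀ ih =>
    obtain ⟨c, Y, z, hY, hYq, hz⟩ := ih (fun a ha => hb a (Finset.mem_insert_of_mem ha))
    obtain ⟨g₂, x, hx, y, hy, hyq, e⟩ := hb a₀ (Finset.mem_insert_self a₀ s)
    refine ⟨c + g₂, Y * y, fun a => if a = a₀ then x * Y else z a * y,
      SetLike.mul_mem_graded hY hy, ?_, ?_⟩
    · intro hmem
      rcases Ideal.IsPrime.mem_or_mem ‹_› hmem with h1 | h1
      · exact hYq h1
      · exact hyq h1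
    · intro a ha
      by_cases haa : a = a₀
      · subst haa
        beta_reduce
        rw [if_pos rfl]
        constructor
        · have := SetLike.mul_mem_graded hx hY
          have h2 : deg a + g₂ + c = deg a + (c + g₂) := by abel
          rwa [h2] at this
        · rw [map_mul, map_mul, ← e]
          ring
      · beta_reduce
        rw [if_neg haa]
        have has : a ∈ s := Finset.mem_of_mem_insert_of_ne ha haa
        obtain ⟨h1, h2⟩ := hz a has
        constructor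
        · have := SetLike.mul_mem_graded h1 hy
          rwa [add_assoc] at this
        · rw [map_mul, map_mul, ← h2]
          ring

/-- homogeneous fractions of distinct degrees are independent -/
theorem IsGrFrac.indep (h : IsGrFrac q φ) {α : Type} (s : Finset α) (deg : α → ι)
    (hinj : Set.InjOn deg s) (b : α → B) (hb : ∀ a ∈ s, b a ∈ WW q φ (deg a))
    (hsum : ∑ a ∈ s, b a = 0) : ∀ a ∈ s, b a = 0 := by
  classical
  obtain ⟨c, Y, z, hY, hYq, hz⟩ := exists_common_denom s deg b hb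
  have hu := h.unit c Y hY hYq
  have h1 : φ (∑ a ∈ s, z a) = 0 := by
    rw [map_sum, ← Finset.sum_congr rfl (fun a ha => (hz a ha).2), ← Finset.sum_mul, hsum, zero_mul]
  have h2 : ∑ a ∈ s, z a ∈ q.toIdeal := (h.ker _).mp h1
  intro a₁ ha₁
  have h3 : projR 𝒜 (deg a₁ + c) (∑ a ∈ s, z a) = z a₁ := by
    rw [map_sum, Finset.sum_eq_single a₁]
    · rw [projR_of_mem (hz a₁ ha₁).1, if_pos rfl]
    · intro a ha hne
      rw [projR_of_mem (hz a ha).1, if_neg]
      intro heq
      exact hne (hinj ha ha₁ (add_right_cancel heq))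
    · intro hn
      exact absurd ha₁ hn
  have h4 : z a₁ ∈ q.toIdeal := by
    rw [← h3]
    exact q.isHomogeneous (deg a₁ + c) h2
  have h5 := (hz a₁ ha₁).2
  rw [(h.ker _).mpr h4] at h5
  exact (hu.mul_left_eq_zero).mp h5

end Indep

end Groth.Agent.H98.Bass1
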