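import Groth.Agent.H98.Bass1.GrFracH

set_option autoImplicit false
universe u

/-!
# A basis of the group of degrees and the corresponding Laurent monomials
-/

namespace Groth.Agent.H98.Bass1

open DirectSum Module

section Basis

variable {ι : Type} [AddCommGroup ι] [DecidableEq ι] [Module.Free ℤ ι] [Module.Finite ℤ ι]
variable {R : Type u} [CommRing R] {𝒜 : ι → AddSubgroup R} [GradedRing 𝒜]
variable {q : HomogeneousIdeal 𝒜} [q.toIdeal.IsPrime]
variable {B : Type u} [CommRing B] [Nontrivial B] {φ : R →+* B} (h : IsGrFrac q φ)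

/-- the submodule of degrees -/
abbrev Hsub : Submodule ℤ ι := AddSubgroup.toIntSubmodule (HH h)

/-- the index type of the chosen basis -/
abbrev Sig : Type := Module.Free.ChooseBasisIndex ℤ ↥(Hsub h)

/-- the chosen basis of the group of degrees -/
noncomputable def bas : Basis (Sig h) ℤ ↥(Hsub h) := Module.Free.chooseBasis ℤ ↥(Hsub h)

theorem exists_unit (i : Sig h) : ∃ t : Bˣ, (t : B) ∈ WW q φ ((bas h i : ↥(Hsub h)) : ι) := by
  obtain ⟨b, hb, hb0⟩ := (bas h i).2
  exact ⟨(h.isUnit_of_mem_WW hb hb0).unit, hb⟩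

/-- the chosen homogeneous units -/
noncomputable def tt (i : Sig h) : Bˣ := (exists_unit h i).choose

theorem tt_mem (i : Sig h) : ((tt h i : Bˣ) : B) ∈ WW q φ ((bas h i : ↥(Hsub h)) : ι) :=
  (exists_unit h i).choose_spec

/-- the Laurent monomial `t^n` -/
noncomputable def tz (n : Sig h →₀ ℤ) : Bˣ := n.prod fun i e => tt h i ^ e

/-- the degree of the Laurent monomial `t^n` -/
noncomputable def dz (n : Sig h →₀ ℤ) : ι :=
  ((Finsupp.linearCombination ℤ (bas h) n : ↥(Hsub h)) : ι)

theorem tz_add (n n' : Sig h →₀ ℤ) : tz h (n + n') = tz h n * tz h n' := by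
  unfold tz
  rw [Finsupp.prod_add_index' (fun i => zpow_zero _) (fun i e e' => zpow_add _ e e')]

theorem dz_add (n n' : Sig h →₀ ℤ) : dz h (n + n') = dz h n + dz h n' := by
  unfold dz
  rw [map_add, Submodule.coe_add]

theorem dz_injective : Function.Injective (dz h) := by
  intro n n' hnn
  have h1 : Finsupp.linearCombination ℤ (bas h) n = Finsupp.linearCombination ℤ (bas h) n' :=
    Subtype.ext hnn
  have := (bas h).linearIndependent
  exact this h1

theorem tz_mem (n : Sig h →₀ ℤ) : ((tz h n : Bˣ) : B) ∈ WW q φ (dz h n) := by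
  induction n using Finsupp.induction_linear with
  | zero =>
    have h1 : tz h 0 = 1 := by unfold tz; simp
    have h2 : dz h 0 = 0 := by unfold dz; simp
    rw [h1, h2, Units.val_one]
    exact one_mem_WW q φ
  | add f g hf hg =>
    rw [tz_add, dz_add, Units.val_mul]
    exact mul_mem_WW q φ hf hg
  | single i e =>
    have h1 : tz h (Finsupp.single i e) = tt h i ^ e := by
      unfold tz
      rw [Finsupp.prod_single_index (zpow_zero _)]
    have h2 : dz h (Finsupp.single i e) = e • ((bas h i : ↥(Hsub h)) : ι) := by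
      unfold dz
      rw [Finsupp.linearCombination_single, Submodule.coe_smul]
    rw [h1, h2]
    exact h.zpow_mem_WW (tt_mem h i) e

/-- every homogeneous fraction is a degree-zero fraction times a Laurent monomial -/
theorem exists_eq_mul_tz {g : ι} {b : B} (hb : b ∈ WW q φ g) (hb0 : b ≠ 0) :
    ∃ (n : Sig h →₀ ℤ) (b₀ : B), dz h n = g ∧ b₀ ∈ WW q φ 0 ∧ b = b₀ * (tz h n : Bˣ) := by
  have hg : g ∈ Hsub h := ⟨b, hb, hb0⟩
  let n := (bas h).repr ⟨g, hg⟩
  have hn : dz h n = g := by
    unfold dz
    rw [(bas h).linearCombination_repr]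
  refine ⟨n, b * ((tz h n)⁻¹ : Bˣ), hn, ?_, ?_⟩
  · have h1 := h.inv_mem_WW (tz_mem h n)
    have h2 := mul_mem_WW q φ hb h1
    rwa [hn, add_neg_cancel] at h2
  · rw [mul_assoc, Units.inv_mul, mul_one]

end Basis

end Groth.Agent.H98.Bass1
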