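import Groth.Agent.H98.Bass1.GrFrac

set_option autoImplicit false
universe u

/-!
# The degree-zero fractions form a field-like subring; the degrees of nonzero fractions form a
subgroup; powers of homogeneous units
-/

namespace Groth.Agent.H98.Bass1

open DirectSum

section H

variable {ι : Type} [AddCommGroup ι] [DecidableEq ι]
variable {R : Type u} [CommRing R] {𝒜 : ι → AddSubgroup R} [GradedRing 𝒜]
variable {q : HomogeneousIdeal 𝒜} [q.toIdeal.IsPrime]
variable {B : Type u} [CommRing B] [Nontrivial B] {φ : R →+* B}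

/-- the degrees of the nonzero homogeneous fractions -/
def HH (h : IsGrFrac q φ) : AddSubgroup ι where
  carrier := {g | ∃ b ∈ WW q φ g, b ≠ 0}
  zero_mem' := ⟨1, one_mem_WW q φ, one_ne_zero⟩
  add_mem' := by
    rintro g g' ⟨b, hb, hb0⟩ ⟨b', hb', hb0'⟩
    refine ⟨b * b', mul_mem_WW q φ hb hb', ?_⟩
    exact ((h.isUnit_of_mem_WW hb hb0).mul (h.isUnit_of_mem_WW hb' hb0')).ne_zero
  neg_mem' := by
    rintro g ⟨b, hb, hb0⟩
    have hu := h.isUnit_of_mem_WW hb hb0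
    refine ⟨((hu.unit⁻¹ : Bˣ) : B), h.inv_mem_WW (b := hu.unit) hb, Units.ne_zero _⟩

theorem mem_HH (h : IsGrFrac q φ) {g : ι} : g ∈ HH h ↔ ∃ b ∈ WW q φ g, b ≠ 0 := Iff.rfl

theorem IsGrFrac.pow_mem_WW (h : IsGrFrac q φ) {g : ι} {b : Bˣ} (hb : (b : B) ∈ WW q φ g) :
    ∀ n : ℕ, ((b ^ n : Bˣ) : B) ∈ WW q φ (n • g)
  | 0 => by
    rw [pow_zero, zero_smul, Units.val_one]
    exact one_mem_WW q φ
  | n + 1 => by
    rw [pow_succ, succ_nsmul, Units.val_mul]
    exact mul_mem_WW q φ (h.pow_mem_WW hb n) hb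

theorem IsGrFrac.zpow_mem_WW (h : IsGrFrac q φ) {g : ι} {b : Bˣ} (hb : (b : B) ∈ WW q φ g)
    (n : ℤ) : ((b ^ n : Bˣ) : B) ∈ WW q φ (n • g) := by
  cases n with
  | ofNat n =>
    rw [Int.ofNat_eq_natCast, zpow_natCast, natCast_zsmul]
    exact h.pow_mem_WW hb n
  | negSucc n =>
    rw [zpow_negSucc, negSucc_zsmul]
    exact h.inv_mem_WW (h.pow_mem_WW hb (n + 1))

end H

end Groth.Agent.H98.Bass1
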