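import Groth.Agent.H98.Bass1.GrFracBasis

set_option autoImplicit false
universe u

/-!
# The ring of homogeneous fractions is a Laurent polynomial ring over the degree-zero fractions
-/

namespace Groth.Agent.H98.Bass1

open DirectSum Module

section Poly

variable {ι : Type} [AddCommGroup ι] [DecidableEq ι] [Module.Free ℤ ι] [Module.Finite ℤ ι]
variable {R : Type u} [CommRing R] {𝒜 : ι → AddSubgroup R} [GradedRing 𝒜]
variable {q : HomogeneousIdeal 𝒜} [q.toIdeal.IsPrime]
variable {B : Type u} [CommRing B] [Nontrivial B] {φ : R →+* B} (h : IsGrFrac q φ)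
variable (K : Type u) [Field K] (ψ : K →+* B) (hψ : ∀ b : B, b ∈ WW q φ 0 ↔ ∃ κ, ψ κ = b)

/-- natural exponents as integer exponents -/
noncomputable def nz (m : Sig h →₀ ℕ) : Sig h →₀ ℤ := m.mapRange (Nat.cast : ℕ → ℤ) Nat.cast_zero

theorem nz_add (m m' : Sig h →₀ ℕ) : nz h (m + m') = nz h m + nz h m' := by
  unfold nz
  exact Finsupp.mapRange_add (fun a b => Nat.cast_add a b) m m'

theorem nz_single (i : Sig h) (k : ℕ) : nz h (Finsupp.single i k) = Finsupp.single i (k : ℤ) := by
  unfold nz
  rw [Finsupp.mapRange_single]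

theorem nz_injective : Function.Injective (nz h) := by
  unfold nz
  exact Finsupp.mapRange_injective _ Nat.cast_zero Nat.cast_injective

/-- the evaluation map from the polynomial ring -/
noncomputable def Phi : MvPolynomial (Sig h) K →+* B :=
  MvPolynomial.eval₂Hom ψ (fun i => ((tt h i : Bˣ) : B))

theorem prod_eq_tz (m : Sig h →₀ ℕ) :
    (m.prod fun i k => ((tt h i : Bˣ) : B) ^ k) = ((tz h (nz h m) : Bˣ) : B) := by
  induction m using Finsupp.induction_linear with
  | zero =>
    have h1 : nz h 0 = 0 := by unfold nz; simp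
    have h2 : tz h 0 = 1 := by unfold tz; simp
    rw [h1, h2]
    simp
  | add f g hf hg =>
    rw [Finsupp.prod_add_index' (fun i => pow_zero _) (fun i e e' => pow_add _ e e'), hf, hg,
      nz_add, tz_add, Units.val_mul]
  | single i k =>
    rw [Finsupp.prod_single_index (h := fun i k => ((tt h i : Bˣ) : B) ^ k) (pow_zero _), nz_single]
    have h1 : tz h (Finsupp.single i (k : ℤ)) = tt h i ^ (k : ℤ) := by
      unfold tz
      rw [Finsupp.prod_single_index (h := fun i e => tt h i ^ e) (zpow_zero _)]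
    rw [h1, zpow_natCast, Units.val_pow_eq_pow_val]

theorem Phi_monomial (m : Sig h →₀ ℕ) (κ : K) :
    Phi h K ψ (MvPolynomial.monomial m κ) = ψ κ * ((tz h (nz h m) : Bˣ) : B) := by
  unfold Phi
  rw [MvPolynomial.eval₂Hom_monomial, prod_eq_tz]

include hψ in
theorem Phi_injective : Function.Injective (Phi h K ψ) := by
  classical
  rw [injective_iff_map_eq_zero]
  intro f hf
  rw [← MvPolynomial.support_sum_monomial_coeff f, map_sum] at hf
  have hmem : ∀ m ∈ f.support, Phi h K ψ (MvPolynomial.monomial m (MvPolynomial.coeff m f)) ∈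
      WW q φ (dz h (nz h m)) := by
    intro m _
    rw [Phi_monomial]
    have h1 : ψ (MvPolynomial.coeff m f) ∈ WW q φ 0 := (hψ _).mpr ⟨_, rfl⟩
    have h2 := mul_mem_WW q φ h1 (tz_mem h (nz h m))
    rwa [zero_add] at h2
  have hinj : Set.InjOn (fun m => dz h (nz h m)) (f.support : Set (Sig h →₀ ℕ)) :=
    fun m _ m' _ hmm => nz_injective h (dz_injective h hmm)
  have h0 := h.indep f.support (fun m => dz h (nz h m)) hinj _ hmem hf
  rw [← MvPolynomial.support_eq_empty]
  by_contra hne
  obtain ⟨m, hm⟩ := Finset.nonempty_iff_ne_empty.mpr hne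
  have h1 := h0 m hm
  rw [Phi_monomial] at h1
  have h2 : ψ (MvPolynomial.coeff m f) = 0 := (Units.mul_left_eq_zero _).mp h1
  have h3 : MvPolynomial.coeff m f = 0 := (map_eq_zero ψ).mp h2
  exact (MvPolynomial.mem_support_iff.mp hm) h3

end Poly

end Groth.Agent.H98.Bass1
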