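import Groth.Agent.H98.Bass1.GrFracPoly

set_option autoImplicit false
universe u

/-!
# Every element of `B` is a quotient of values of polynomials
-/

namespace Groth.Agent.H98.Bass1

open DirectSum Module

section Surj

variable {ι : Type} [AddCommGroup ι] [DecidableEq ι] [Module.Free ℤ ι] [Module.Finite ℤ ι]
variable {R : Type u} [CommRing R] {𝒜 : ι → AddSubgroup R} [GradedRing 𝒜]
variable {q : HomogeneousIdeal 𝒜} [q.toIdeal.IsPrime]
variable {B : Type u} [CommRing B] [Nontrivial B] {φ : R →+* B} (h : IsGrFrac q φ)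
variable (K : Type u) [Field K] (ψ : K →+* B) (hψ : ∀ b : B, b ∈ WW q φ 0 ↔ ∃ κ, ψ κ = b)

/-- the all-ones exponent -/
noncomputable def oneN : Sig h →₀ ℕ := Finsupp.equivFunOnFinite.symm (fun _ => 1)

/-- the product of the chosen units -/
noncomputable def Tu : Bˣ := tz h (nz h (oneN h))

theorem tz_nsmul (n : Sig h →₀ ℤ) : ∀ N : ℕ, tz h (N • n) = tz h n ^ N
  | 0 => by
    rw [zero_smul, pow_zero]
    unfold tz
    simp
  | N + 1 => by
    rw [succ_nsmul, tz_add, tz_nsmul n N, pow_succ]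

theorem Phi_monomial_one (N : ℕ) :
    Phi h K ψ ((MvPolynomial.monomial (oneN h) (1 : K)) ^ N) = ((Tu h ^ N : Bˣ) : B) := by
  rw [map_pow, Phi_monomial, map_one, one_mul, Units.val_pow_eq_pow_val]
  rfl

include hψ in
theorem exists_poly_of_homog {g : ι} {x : R} (hx : x ∈ 𝒜 g) :
    ∃ (f : MvPolynomial (Sig h) K) (N : ℕ), φ x * ((Tu h ^ N : Bˣ) : B) = Phi h K ψ f := by
  by_cases hφx : φ x = 0
  · exact ⟨0, 0, by rw [hφx, zero_mul, map_zero]⟩
  · obtain ⟨n, b₀, -, hb₀, e⟩ := exists_eq_mul_tz h (map_mem_WW q φ hx) hφx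
    obtain ⟨κ, hκ⟩ := (hψ b₀).mp hb₀
    let N : ℕ := ∑ i, (n i).natAbs
    let m : Sig h →₀ ℕ := Finsupp.equivFunOnFinite.symm (fun i => (n i + N).toNat)
    have hm : nz h m = n + N • nz h (oneN h) := by
      ext i
      have h1 : (n i).natAbs ≤ N := Finset.single_le_sum (f := fun i => (n i).natAbs)
        (fun _ _ => Nat.zero_le _) (Finset.mem_univ i)
      have h2 : 0 ≤ n i + N := by omega
      unfold nz oneN
      simp only [Finsupp.mapRange_apply, Finsupp.coe_add, Finsupp.coe_smul, Pi.add_apply,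
        nsmul_eq_mul]
      change (((n i + (N : ℤ)).toNat : ℕ) : ℤ) = n i + (N : ℤ) * ((1 : ℕ) : ℤ)
      rw [Int.toNat_of_nonneg h2]
      simp
    refine ⟨MvPolynomial.monomial m κ, N, ?_⟩
    rw [Phi_monomial, hm, tz_add, tz_nsmul, e, hκ, Units.val_mul, mul_assoc]
    rfl

include hψ in
theorem exists_poly (x : R) :
    ∃ (f : MvPolynomial (Sig h) K) (N : ℕ), φ x * ((Tu h ^ N : Bˣ) : B) = Phi h K ψ f := by
  induction x using DirectSum.Decomposition.inductionOn 𝒜 with
  | zero => exact ⟨0, 0, by rw [map_zero, zero_mul, map_zero]⟩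
  | @homogeneous g x => exact exists_poly_of_homog h K ψ hψ x.2
  | add x x' hx hx' =>
    obtain ⟨f, N, e⟩ := hx
    obtain ⟨f', N', e'⟩ := hx'
    refine ⟨f * (MvPolynomial.monomial (oneN h) (1 : K)) ^ N' +
      f' * (MvPolynomial.monomial (oneN h) (1 : K)) ^ N, N + N', ?_⟩
    have hL : φ (x + x') = φ x + φ x' := map_add _ _ _
    have hR : Phi h K ψ (f * (MvPolynomial.monomial (oneN h) (1 : K)) ^ N' +
        f' * (MvPolynomial.monomial (oneN h) (1 : K)) ^ N) =
        Phi h K ψ f * ((Tu h ^ N' : Bˣ) : B) + Phi h K ψ f' * ((Tu h ^ N : Bˣ) : B) := by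
      rw [map_add, map_mul, map_mul, Phi_monomial_one, Phi_monomial_one]
    rw [hL, hR, ← e, ← e', pow_add, Units.val_mul]
    ring

include hψ in
/-- every element of `B` is a quotient of values of polynomials -/
theorem exists_frac (b : B) :
    ∃ f s : MvPolynomial (Sig h) K, IsUnit (Phi h K ψ s) ∧ b * Phi h K ψ s = Phi h K ψ f := by
  obtain ⟨x, y, hy, e⟩ := h.surj b
  obtain ⟨fx, Nx, ex⟩ := exists_poly h K ψ hψ x
  obtain ⟨fy, Ny, ey⟩ := exists_poly h K ψ hψ y
  refine ⟨fx * (MvPolynomial.monomial (oneN h) (1 : K)) ^ Ny,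
    fy * (MvPolynomial.monomial (oneN h) (1 : K)) ^ Nx, ?_, ?_⟩
  · rw [map_mul, Phi_monomial_one, ← ey]
    exact (hy.mul (Units.isUnit _)).mul (Units.isUnit _)
  · rw [map_mul, map_mul, Phi_monomial_one, Phi_monomial_one, ← ex, ← ey, ← e]
    ring

end Surj

end Groth.Agent.H98.Bass1
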