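import Groth.Agent.H98.GrStar.Ess
import Groth.Agent.H98.Bass0.LocSoc

set_option autoImplicit false
universe u

/-!
# Graded modules over `R ⧸ q` become free after inverting the homogeneous elements outside `q`

We work with a maximal family of homogeneous elements killed by `q` which is independent modulo `q`.
-/

namespace Groth.Agent.H98.Bass1

open DirectSum Groth.Agent.H98.GrStar Groth.Agent.H98.Bass0

section GrFree

variable {ι : Type} [AddCommGroup ι] [DecidableEq ι]
variable {R : Type u} [CommRing R] {𝒜 : ι → AddSubgroup R} [GradedRing 𝒜]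
variable {X : Type u} [AddCommGroup X] [Module R X] (𝒳 : ι → AddSubgroup X)
  [DirectSum.Decomposition 𝒳] [SetLike.GradedSMul 𝒜 𝒳]
variable (q : HomogeneousIdeal 𝒜)

/-- homogeneous elements killed by `q` -/
def socSet : Set X := {y | (∃ g, y ∈ 𝒳 g) ∧ ∀ r ∈ q.toIdeal, r • y = 0}

/-- independence modulo `q` -/
def QIndep (Λ : Set X) : Prop :=
  ∀ c : X →₀ R, (↑c.support ⊆ Λ) → Finsupp.linearCombination R (id : X → X) c = 0 →
    ∀ y, c y ∈ q.toIdeal

omit [DirectSum.Decomposition 𝒳] [SetLike.GradedSMul 𝒜 𝒳] in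
theorem exists_maximal :
    ∃ Λ : Set X, Maximal (fun Λ => Λ ⊆ socSet 𝒳 q ∧ QIndep q Λ) Λ := by
  have h0 : (∅ : Set X) ∈ {Λ : Set X | Λ ⊆ socSet 𝒳 q ∧ QIndep q Λ} := by
    refine ⟨Set.empty_subset _, ?_⟩
    intro c hc _ y
    have : c = 0 := by
      rw [← Finsupp.support_eq_empty]
      exact Finset.coe_eq_empty.mp (Set.subset_empty_iff.mp hc)
    rw [this, Finsupp.zero_apply]
    exact Ideal.zero_mem _
  have hch : ∀ c ⊆ {Λ : Set X | Λ ⊆ socSet 𝒳 q ∧ QIndep q Λ}, IsChain (· ⊆ ·) c → c.Nonempty →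
      ∃ ub ∈ {Λ : Set X | Λ ⊆ socSet 𝒳 q ∧ QIndep q Λ}, ∀ s ∈ c, s ⊆ ub := by
    intro c hcS hchain hne
    refine ⟨⋃₀ c, ⟨?_, ?_⟩, fun s hs => Set.subset_sUnion_of_mem hs⟩
    · exact Set.sUnion_subset fun s hs => (hcS hs).1
    · intro f hf hsum y
      obtain ⟨t, htc, hft⟩ := hchain.directedOn.exists_mem_subset_of_finite_of_subset_sUnion hne
        f.support.finite_toSet hf
      exact (hcS htc).2 f hft hsum y
  obtain ⟨Λ, -, hΛ⟩ := zorn_subset_nonempty {Λ : Set X | Λ ⊆ socSet 𝒳 q ∧ QIndep q Λ} hch ∅ h0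
  exact ⟨Λ, hΛ⟩


/-- the `k`-th component as an additive map -/
def projHom (k : ι) : X →+ X where
  toFun x := (DirectSum.decompose 𝒳 x k : X)
  map_zero' := by simp
  map_add' x y := by simp [DirectSum.decompose_add]

omit [AddCommGroup ι] [SetLike.GradedSMul 𝒜 𝒳] in
theorem projHom_apply (k : ι) (x : X) : projHom 𝒳 k x = (DirectSum.decompose 𝒳 x k : X) := rfl

theorem projHom_smul {i : ι} {z : X} (hz : z ∈ 𝒳 i) (r : R) (k : ι) :
    projHom 𝒳 k (r • z) = ((DirectSum.decompose 𝒜 r (k - i) : 𝒜 (k - i)) : R) • z := by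
  have := decompose_smul_of_mem 𝒜 𝒳 hz r (k - i)
  rw [sub_add_cancel] at this
  exact this

variable {𝒳 q}

omit [DirectSum.Decomposition 𝒳] [SetLike.GradedSMul 𝒜 𝒳] in
theorem coeff_not_mem_of_dep {Λ : Set X} (hind : QIndep q Λ) {y : X} (hy : y ∈ socSet 𝒳 q)
    (c : X →₀ R) (hcs : ↑c.support ⊆ insert y Λ)
    (hsum : Finsupp.linearCombination R (id : X → X) c = 0) {y₁ : X} (hy₁ : c y₁ ∉ q.toIdeal) :
    c y ∉ q.toIdeal := by
  classical
  intro hcy
  have h1 : ↑(c.erase y).support ⊆ Λ := by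
    intro z hz
    rw [Finset.mem_coe, Finsupp.support_erase, Finset.mem_erase] at hz
    rcases hcs (Finset.mem_coe.mpr hz.2) with h | h
    · exact absurd h hz.1
    · exact h
  have h2 : Finsupp.linearCombination R (id : X → X) (c.erase y) = 0 := by
    have h3 : c = Finsupp.single y (c y) + c.erase y := (Finsupp.single_add_erase y c).symm
    have h4 := hsum
    rw [h3, map_add, Finsupp.linearCombination_single, id, hy.2 _ hcy, zero_add] at h4
    exact h4
  have h3 := hind (c.erase y) h1 h2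
  by_cases hy1 : y₁ = y
  · rw [hy1] at hy₁
    exact hy₁ hcy
  · apply hy₁
    have := h3 y₁
    rwa [Finsupp.erase_ne hy1] at this

/-- every homogeneous element killed by `q` is, up to a homogeneous factor outside `q`, a
combination of the maximal independent family -/
theorem exists_smul_eq_linearCombination [q.toIdeal.IsPrime] {Λ : Set X}
    (hΛ : Maximal (fun Λ => Λ ⊆ socSet 𝒳 q ∧ QIndep q Λ) Λ) {y : X} (hy : y ∈ socSet 𝒳 q) :
    ∃ (h : ι) (u : R) (c : X →₀ R), u ∈ 𝒜 h ∧ u ∉ q.toIdeal ∧ ↑c.support ⊆ Λ ∧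
      u • y = Finsupp.linearCombination R (id : X → X) c := by
  classical
  by_cases hyΛ : y ∈ Λ
  · refine ⟨0, 1, Finsupp.single y 1, SetLike.GradedOne.one_mem, ?_, ?_, ?_⟩
    · exact (Ideal.ne_top_iff_one _).mp (Ideal.IsPrime.ne_top ‹_›)
    · intro z hz
      have := Finsupp.support_single_subset (Finset.mem_coe.mp hz)
      rw [Finset.mem_singleton] at this
      rw [this]
      exact hyΛ
    · rw [Finsupp.linearCombination_single, id, one_smul]
  · have hsub : insert y Λ ⊆ socSet 𝒳 q := Set.insert_subset hy hΛ.prop.1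
    have hnot : ¬ QIndep q (insert y Λ) := by
      intro hind
      have := hΛ.le_of_ge ⟨hsub, hind⟩ (Set.subset_insert y Λ)
      exact hyΛ (this (Set.mem_insert y Λ))
    unfold QIndep at hnot
    push Not at hnot
    obtain ⟨c, hcs, hsum, y₁, hy₁⟩ := hnot
    have hcy := coeff_not_mem_of_dep hΛ.prop.2 hy c hcs hsum hy₁
    obtain ⟨h, hh⟩ : ∃ h, ((DirectSum.decompose 𝒜 (c y) h : 𝒜 h) : R) ∉ q.toIdeal := by
      by_contra hall
      push Not at hall
      apply hcy
      rw [← DirectSum.sum_support_decompose 𝒜 (c y)]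
      exact Ideal.sum_mem _ fun i _ => hall i
    obtain ⟨g₀, hg₀⟩ := hy.1
    have hdeg : ∀ z : X, z ∈ insert y Λ → ∃ g, z ∈ 𝒳 g := fun z hz => (hsub hz).1
    choose! deg hdegmem using hdeg
    -- the component of degree `h + g₀` of the relation
    have key : ∑ z ∈ c.support,
        ((DirectSum.decompose 𝒜 (c z) (h + g₀ - deg z) : 𝒜 (h + g₀ - deg z)) : R) • z = 0 := by
      have h1 : projHom 𝒳 (h + g₀) (Finsupp.linearCombination R (id : X → X) c) = 0 := by
        rw [hsum, map_zero]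
      rw [Finsupp.linearCombination_apply, Finsupp.sum, map_sum] at h1
      rw [← h1]
      apply Finset.sum_congr rfl
      intro z hz
      rw [id, projHom_smul (𝒜 := 𝒜) 𝒳 (hdegmem z (hcs (Finset.mem_coe.mpr hz)))]
    have hysupp : y ∈ c.support := by
      rw [Finsupp.mem_support_iff]
      intro h0
      apply hcy
      rw [h0]
      exact Ideal.zero_mem _
    -- degree of `y`: we may use `g₀`
    have hyterm : ((DirectSum.decompose 𝒜 (c y) (h + g₀ - deg y) : 𝒜 (h + g₀ - deg y)) : R) • y =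
        ((DirectSum.decompose 𝒜 (c y) h : 𝒜 h) : R) • y := by
      have h1 := projHom_smul (𝒜 := 𝒜) 𝒳 (hdegmem y (Set.mem_insert y Λ)) (c y) (h + g₀)
      have h2 := projHom_smul (𝒜 := 𝒜) 𝒳 hg₀ (c y) (h + g₀)
      rw [add_sub_cancel_right] at h2
      rw [← h1, h2]
    rw [← Finset.add_sum_erase c.support _ hysupp, hyterm] at key
    let c' : X →₀ R := Finsupp.onFinset (c.support.erase y)
      (fun z => if z ∈ c.support.erase y then
        -((DirectSum.decompose 𝒜 (c z) (h + g₀ - deg z) : 𝒜 (h + g₀ - deg z)) : R) else 0)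
      (fun z hz => by
        by_contra hzn
        rw [if_neg hzn] at hz
        exact hz rfl)
    have hc'supp : c'.support ⊆ c.support.erase y := Finsupp.support_onFinset_subset
    refine ⟨h, ((DirectSum.decompose 𝒜 (c y) h : 𝒜 h) : R), c', SetLike.coe_mem _, hh, ?_, ?_⟩
    · intro z hz
      have hz' := hc'supp (Finset.mem_coe.mp hz)
      rw [Finset.mem_erase] at hz'
      rcases hcs (Finset.mem_coe.mpr hz'.2) with h1 | h1
      · exact absurd h1 hz'.1
      · exact h1
    · rw [Finsupp.linearCombination_apply, Finsupp.sum_of_support_subset c' hc'supp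
        (fun z a => a • id z) (fun z _ => zero_smul R _)]
      rw [eq_neg_of_add_eq_zero_left key, ← Finset.sum_neg_distrib]
      apply Finset.sum_congr rfl
      intro z hz
      change -_ = (c' z) • id z
      rw [Finsupp.onFinset_apply, if_pos hz, id, neg_smul]

end GrFree

end Groth.Agent.H98.Bass1
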