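import Groth.Agent.H98.Bass1.GrFree

set_option autoImplicit false
universe u

/-!
# The maximal independent family is a basis after localizing at a prime with core `q`
-/

namespace Groth.Agent.H98.Bass1

open DirectSum Groth.Agent.H98.GrStar Groth.Agent.H98.Bass0

section Loc

variable {ι : Type} [AddCommGroup ι] [DecidableEq ι]
variable {R : Type u} [CommRing R] {𝒜 : ι → AddSubgroup R} [GradedRing 𝒜]
variable {X : Type u} [AddCommGroup X] [Module R X] {𝒳 : ι → AddSubgroup X}
  [DirectSum.Decomposition 𝒳] [SetLike.GradedSMul 𝒜 𝒳]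
variable {q : HomogeneousIdeal 𝒜} [q.toIdeal.IsPrime]
variable (p : Ideal R) [p.IsPrime] (hqp : q.toIdeal ≤ p)

/-- the extension of `q` to `R_p` -/
abbrev QQ (q : HomogeneousIdeal 𝒜) : Ideal (Localization.AtPrime p) :=
  q.toIdeal.map (algebraMap R (Localization.AtPrime p))

/-- the canonical map `X → X_p` on elements -/
abbrev mk1 (y : X) : LocalizedModule p.primeCompl X := LocalizedModule.mk y 1

omit [DirectSum.Decomposition 𝒳] [SetLike.GradedSMul 𝒜 𝒳] in
include hqp in
/-- (F1) independence modulo `q` survives localization -/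
theorem loc_indep {Λ : Set X} (hind : QIndep q Λ) (c : X →₀ Localization.AtPrime p)
    (hcs : ↑c.support ⊆ Λ)
    (hsum : Finsupp.linearCombination (Localization.AtPrime p) (mk1 (X := X) p) c = 0) :
    ∀ y, c y ∈ QQ p q := by
  classical
  obtain ⟨s, hs⟩ := IsLocalization.exist_integer_multiples_of_finset p.primeCompl (c.support.image c)
  have hs' : ∀ y ∈ c.support, ∃ r : R, algebraMap R (Localization.AtPrime p) r = (s : R) • c y :=
    fun y hy => hs (c y) (Finset.mem_image_of_mem c hy)
  choose! r hr using hs'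
  let c₀ : X →₀ R := Finsupp.onFinset c.support (fun y => if y ∈ c.support then r y else 0)
    (fun y hy => by
      by_contra hyn
      rw [if_neg hyn] at hy
      exact hy rfl)
  have hc₀supp : c₀.support ⊆ c.support := Finsupp.support_onFinset_subset
  have h1 : (LocalizedModule.mk (Finsupp.linearCombination R (id : X → X) c₀) 1 :
      LocalizedModule p.primeCompl X) = 0 := by
    have h2 : (LocalizedModule.mk (Finsupp.linearCombination R (id : X → X) c₀) 1 :
        LocalizedModule p.primeCompl X) =
        (s : R) • Finsupp.linearCombination (Localization.AtPrime p) (mk1 (X := X) p) c := by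
      rw [Finsupp.linearCombination_apply, Finsupp.sum_of_support_subset c₀ hc₀supp
        (fun z a => a • id z) (fun z _ => zero_smul R _), Finsupp.linearCombination_apply,
        Finsupp.sum, Finset.smul_sum]
      change LocalizedModule.mkLinearMap p.primeCompl X _ = _
      rw [map_sum]
      apply Finset.sum_congr rfl
      intro y hy
      change LocalizedModule.mk (c₀ y • y) 1 = (s : R) • (c y • mk1 p y)
      rw [Finsupp.onFinset_apply, if_pos hy, ← smul_assoc, ← hr y hy, algebraMap_smul_mk]
    rw [h2, hsum, smul_zero]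
  rw [mk_eq_zero_iff'] at h1
  obtain ⟨t, ht, hzero⟩ := h1
  have h3 : Finsupp.linearCombination R (id : X → X) (t • c₀) = 0 := by
    rw [map_smul, hzero]
  have h4 := hind (t • c₀) (by
    intro z hz
    apply hcs
    exact Finset.mem_coe.mpr (hc₀supp (Finsupp.support_smul (Finset.mem_coe.mp hz)))) h3
  intro y
  by_cases hy : y ∈ c.support
  · have h5 : c₀ y ∈ q.toIdeal := by
      have := h4 y
      rw [Finsupp.smul_apply, smul_eq_mul] at this
      rcases Ideal.IsPrime.mem_or_mem ‹q.toIdeal.IsPrime› this with h | h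
      · exact absurd (hqp h) ht
      · exact h
    have h6 : algebraMap R (Localization.AtPrime p) (c₀ y) ∈ QQ p q := Ideal.mem_map_of_mem _ h5
    rw [Finsupp.onFinset_apply, if_pos hy, hr y hy, Algebra.smul_def] at h6
    exact (Ideal.unit_mul_mem_iff_mem _ (IsLocalization.map_units (Localization.AtPrime p) s)).mp h6
  · rw [Finsupp.notMem_support_iff.mp hy]
    exact Ideal.zero_mem _


omit [SetLike.GradedSMul 𝒜 𝒳] [DirectSum.Decomposition 𝒳] [q.toIdeal.IsPrime] [GradedRing 𝒜] [DecidableEq ι] [AddCommGroup ι] in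
theorem mk1_mem_span_of_smul {Λ : Set X} {y : X} {u : R} (hu : u ∉ p) (c : X →₀ R)
    (hcs : ↑c.support ⊆ Λ) (h : u • y = Finsupp.linearCombination R (id : X → X) c) :
    mk1 p y ∈ Submodule.span (Localization.AtPrime p) (mk1 (X := X) p '' Λ) := by
  have hunit : IsUnit (algebraMap R (Localization.AtPrime p) u) :=
    IsLocalization.map_units (Localization.AtPrime p) (⟨u, hu⟩ : p.primeCompl)
  rw [← Submodule.smul_mem_iff_of_isUnit _ hunit, algebraMap_smul_mk, h,
    Finsupp.linearCombination_apply, Finsupp.sum]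
  change LocalizedModule.mkLinearMap p.primeCompl X _ ∈ _
  rw [map_sum]
  apply Submodule.sum_mem
  intro z hz
  change LocalizedModule.mk (c z • id z) 1 ∈ _
  rw [id, ← algebraMap_smul_mk]
  exact Submodule.smul_mem _ _ (Submodule.subset_span ⟨z, hcs (Finset.mem_coe.mpr hz), rfl⟩)

omit [q.toIdeal.IsPrime] in
/-- components of an element killed by `q` are killed by `q` -/
theorem decompose_mem_socSet {x : X} (hx : ∀ r ∈ q.toIdeal, r • x = 0) (g : ι) :
    ((DirectSum.decompose 𝒳 x g : 𝒳 g) : X) ∈ socSet 𝒳 q := by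
  classical
  refine ⟨⟨g, SetLike.coe_mem _⟩, ?_⟩
  intro r hr
  rw [← DirectSum.sum_support_decompose 𝒜 r, Finset.sum_smul]
  apply Finset.sum_eq_zero
  intro h _
  have hrh : ((DirectSum.decompose 𝒜 r h : 𝒜 h) : R) ∈ q.toIdeal := q.isHomogeneous h hr
  rw [← decompose_smul_homog 𝒜 𝒳 (SetLike.coe_mem _) x g, hx _ hrh]
  simp

/-- (F2) the elements of `X_p` killed by `q` lie in the span of the maximal independent family -/
theorem loc_span [IsNoetherianRing R] (hcore : ∀ g, ∀ x ∈ 𝒜 g, x ∈ p → x ∈ q.toIdeal) {Λ : Set X}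
    (hΛ : Maximal (fun Λ => Λ ⊆ socSet 𝒳 q ∧ QIndep q Λ) Λ)
    (x : LocalizedModule p.primeCompl X) (hx : ∀ a ∈ QQ p q, a • x = 0) :
    x ∈ Submodule.span (Localization.AtPrime p) (mk1 (X := X) p '' Λ) := by
  classical
  -- homogeneous elements
  have hhom : ∀ y ∈ socSet 𝒳 q,
      mk1 p y ∈ Submodule.span (Localization.AtPrime p) (mk1 (X := X) p '' Λ) := by
    intro y hy
    obtain ⟨h, u, c, huh, huq, hcs, hrel⟩ := exists_smul_eq_linearCombination hΛ hy
    exact mk1_mem_span_of_smul p (fun hup => huq (hcore h u huh hup)) c hcs hrel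
  induction x using LocalizedModule.induction_on with
  | h x₀ s =>
    obtain ⟨G, hG⟩ := (isNoetherianRing_iff_ideal_fg R).mp inferInstance q.toIdeal
    have h1 : ∀ r ∈ G, ∃ t : R, t ∉ p ∧ t • r • x₀ = 0 := by
      intro r hr
      have hrq : r ∈ q.toIdeal := by
        rw [← hG]
        exact Ideal.subset_span hr
      have := hx _ (Ideal.mem_map_of_mem _ hrq)
      rw [algebraMap_smul_mk, mk_eq_zero_iff'] at this
      exact this
    obtain ⟨t, ht, htG⟩ := exists_common_smul_eq_zero p x₀ G h1
    have hkill : ∀ r ∈ q.toIdeal, r • (t • x₀) = 0 := by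
      have hle : q.toIdeal ≤ LinearMap.ker (LinearMap.toSpanSingleton R X (t • x₀)) := by
        rw [← hG, Ideal.span_le]
        intro r' hr'
        rw [SetLike.mem_coe, LinearMap.mem_ker, LinearMap.toSpanSingleton_apply, smul_comm]
        exact htG r' hr'
      intro r hr
      have := hle hr
      rwa [LinearMap.mem_ker, LinearMap.toSpanSingleton_apply] at this
    have h2 : mk1 p (t • x₀) ∈ Submodule.span (Localization.AtPrime p) (mk1 (X := X) p '' Λ) := by
      rw [← DirectSum.sum_support_decompose 𝒳 (t • x₀)]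
      change LocalizedModule.mkLinearMap p.primeCompl X _ ∈ _
      rw [map_sum]
      apply Submodule.sum_mem
      intro g _
      exact hhom _ (decompose_mem_socSet hkill g)
    have hunit : IsUnit (algebraMap R (Localization.AtPrime p) (t * s)) :=
      IsLocalization.map_units (Localization.AtPrime p)
        ((⟨t, ht⟩ : p.primeCompl) * s)
    rw [← Submodule.smul_mem_iff_of_isUnit _ hunit, algebraMap_smul_mk]
    have h3 : (LocalizedModule.mk ((t * (s : R)) • x₀) s : LocalizedModule p.primeCompl X) =
        mk1 p (t • x₀) := by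
      rw [LocalizedModule.mk_eq]
      refine ⟨1, ?_⟩
      simp only [one_smul, Submonoid.smul_def]
      rw [mul_comm, mul_smul]
    rw [h3]
    exact h2

end Loc

end Groth.Agent.H98.Bass1
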