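import Groth.Agent.H98.Bass1.ExtQuot

set_option autoImplicit false
universe u

/-!
# `Ext` out of `T ⧸ (r₁, …, r_d)T` for a `T`-regular sequence, when all `Ext^i(T, N)` are `T`-free
-/

namespace Groth.Agent.H98.Bass1

open CategoryTheory Abelian Pointwise

section Congr

variable {A : Type u} [CommRing A]

/-- transport of `Ext` along an isomorphism in the first variable -/
noncomputable def extCongrLeft {T T' : Type u} [AddCommGroup T] [Module A T] [AddCommGroup T']
    [Module A T'] (e : T ≃ₗ[A] T') (N : ModuleCat.{u} A) (i : ℕ) :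
    Ext.{u} (ModuleCat.of A T) N i ≃ₗ[A] Ext.{u} (ModuleCat.of A T') N i where
  toFun x := (Ext.mk₀ e.toModuleIso.inv).comp x (zero_add i)
  invFun x := (Ext.mk₀ e.toModuleIso.hom).comp x (zero_add i)
  map_add' x y := Ext.comp_add _ x y _
  map_smul' a x := Ext.comp_smul _ x _ a
  left_inv x := by
    change (Ext.mk₀ e.toModuleIso.hom).comp ((Ext.mk₀ e.toModuleIso.inv).comp x (zero_add i))
      (zero_add i) = x
    rw [Ext.mk₀_comp_mk₀_assoc, e.toModuleIso.hom_inv_id, Ext.mk₀_id_comp]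
  right_inv x := by
    change (Ext.mk₀ e.toModuleIso.inv).comp ((Ext.mk₀ e.toModuleIso.hom).comp x (zero_add i))
      (zero_add i) = x
    rw [Ext.mk₀_comp_mk₀_assoc, e.toModuleIso.inv_hom_id, Ext.mk₀_id_comp]

/-- `(Λ →₀ T) ⧸ r ≅ Λ →₀ (T ⧸ r)` -/
noncomputable def quotFinsuppEquiv (Λ : Type u) (T : Type u) [AddCommGroup T] [Module A T] (r : A) :
    QuotSMulTop r (Λ →₀ T) ≃ₗ[A] (Λ →₀ QuotSMulTop r T) := by
  classical
  exact (QuotSMulTop.equivQuotTensor r (Λ →₀ T)).trans
    ((TensorProduct.finsuppRight A A (A ⧸ Ideal.span {r}) T Λ).trans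
      (Finsupp.mapRange.linearEquiv (QuotSMulTop.equivQuotTensor r T).symm))

theorem isSMulRegular_finsupp (Λ : Type u) {T : Type u} [AddCommGroup T] [Module A T] {r : A}
    (hr : IsSMulRegular T r) : IsSMulRegular (Λ →₀ T) r := by
  intro f g hfg
  ext l
  apply hr
  have := DFunLike.congr_fun hfg l
  simpa using this

end Congr

section Seq

variable {A : Type u} [CommRing A] (N : ModuleCat.{u} A) (Λ : ℕ → Type u)

/-- `Ext^i(T, N)` vanishes for `i < s` and is `T`-free on `Λ j` for `i = s + j` -/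
def FreeExt (s : ℕ) (T : Type u) [AddCommGroup T] [Module A T] : Prop :=
  (∀ i : ℕ, i < s → Subsingleton (Ext.{u} (ModuleCat.of A T) N i)) ∧
    ∀ j : ℕ, Nonempty (Ext.{u} (ModuleCat.of A T) N (s + j) ≃ₗ[A] (Λ j →₀ T))

variable {N Λ}

theorem FreeExt.congr {s : ℕ} {T T' : Type u} [AddCommGroup T] [Module A T] [AddCommGroup T']
    [Module A T'] (e : T ≃ₗ[A] T') (h : FreeExt N Λ s T) : FreeExt N Λ s T' := by
  refine ⟨fun i hi => ?_, fun j => ?_⟩
  · have := h.1 i hi
    exact (extCongrLeft e N i).symm.toEquiv.subsingleton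
  · obtain ⟨f⟩ := h.2 j
    exact ⟨(extCongrLeft e N (s + j)).symm.trans (f.trans (Finsupp.mapRange.linearEquiv e))⟩

theorem FreeExt.isSMulRegular {s : ℕ} {T : Type u} [AddCommGroup T] [Module A T]
    (h : FreeExt N Λ s T) {r : A} (hr : IsSMulRegular T r) (i : ℕ) :
    IsSMulRegular (Ext.{u} (ModuleCat.of A T) N i) r := by
  by_cases hi : i < s
  · have := h.1 i hi
    intro a b _
    exact Subsingleton.elim a b
  · obtain ⟨j, rfl⟩ : ∃ j, i = s + j := ⟨i - s, by omega⟩
    obtain ⟨f⟩ := h.2 j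
    exact (f.isSMulRegular_congr r).mpr (isSMulRegular_finsupp (Λ j) hr)

theorem FreeExt.step {s : ℕ} {T : Type u} [AddCommGroup T] [Module A T]
    (h : FreeExt N Λ s T) {r : A} (hr : IsSMulRegular T r) :
    FreeExt N Λ (s + 1) (QuotSMulTop r T) := by
  refine ⟨fun i hi => ?_, fun j => ?_⟩
  · cases i with
    | zero => exact ext_quot_zero_subsingleton N hr (h.isSMulRegular hr 0)
    | succ i =>
      have := h.1 i (by omega)
      exact (extQuotEquiv N hr i (h.isSMulRegular hr (i + 1))).symm.toEquiv.subsingleton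
  · obtain ⟨f⟩ := h.2 j
    have e1 := extQuotEquiv N hr (s + j) (h.isSMulRegular hr (s + j + 1))
    have e2 : QuotSMulTop r (Ext.{u} (ModuleCat.of A T) N (s + j)) ≃ₗ[A]
        QuotSMulTop r (Λ j →₀ T) := QuotSMulTop.congr r f
    have e3 := quotFinsuppEquiv (A := A) (Λ j) T r
    have hidx : s + 1 + j = s + j + 1 := by omega
    rw [hidx]
    exact ⟨e1.symm.trans (e2.trans e3)⟩

theorem FreeExt.of_isWeaklyRegular : ∀ (rs : List A) (T : Type u) [AddCommGroup T] [Module A T]
    (s : ℕ), RingTheory.Sequence.IsWeaklyRegular T rs → FreeExt N Λ s T →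
    FreeExt N Λ (s + rs.length) (T ⧸ (Ideal.ofList rs • ⊤ : Submodule A T)) := by
  intro rs
  induction rs with
  | nil =>
    intro T _ _ s _ h
    have hbot : (Ideal.ofList ([] : List A) • ⊤ : Submodule A T) = ⊥ := by
      rw [Ideal.ofList_nil, Submodule.bot_smul]
    exact h.congr (Submodule.quotEquivOfEqBot _ hbot).symm
  | cons r rs ih =>
    intro T _ _ s hreg h
    obtain ⟨hr, h2⟩ := (RingTheory.Sequence.isWeaklyRegular_cons_iff T r rs).mp hreg
    have h3 := ih (QuotSMulTop r T) (s + 1) h2 (h.step hr)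
    have hlen : s + (r :: rs).length = s + 1 + rs.length := by
      rw [List.length_cons]; omega
    rw [hlen]
    exact h3.congr (Submodule.quotOfListConsSMulTopEquivQuotSMulTopInner T r rs).symm

end Seq

end Groth.Agent.H98.Bass1
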