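import Groth.Agent.H98.Bass1.GrFreeLoc
import Groth.Agent.H98.Bass1.RegSeqExt
import Groth.Agent.H98.Bass0.MuRes

set_option autoImplicit false
universe u

/-!
# `(R ⧸ q)_p ≅ R_p ⧸ q R_p` and vanishing of `Ext^i(R_p ⧸ q R_p, X_p)` for *injective `X`
-/

namespace Groth.Agent.H98.Bass1

open CategoryTheory Abelian Groth.Agent.H98.GrStar Groth.Agent.H98.Bass0

section LocQuot

variable {R : Type u} [CommRing R] (p : Ideal R) [p.IsPrime] (q : Ideal R) [q.IsPrime]
  (hqp : q ≤ p)

/-- the canonical map `R ⧸ q → R_p ⧸ q R_p` -/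
noncomputable def toQuot : (R ⧸ q) →ₗ[R]
    (Localization.AtPrime p ⧸ q.map (algebraMap R (Localization.AtPrime p))) :=
  Submodule.liftQ q
    (((Submodule.mkQ (q.map (algebraMap R (Localization.AtPrime p)))).restrictScalars R).comp
      (Algebra.linearMap R (Localization.AtPrime p))) (by
    intro r hr
    rw [LinearMap.mem_ker, LinearMap.comp_apply, LinearMap.restrictScalars_apply,
      Submodule.mkQ_apply, Submodule.Quotient.mk_eq_zero]
    exact Ideal.mem_map_of_mem _ hr)

omit [q.IsPrime] in
theorem toQuot_mk (r : R) : toQuot p q (Ideal.Quotient.mk q r) =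
    Submodule.Quotient.mk (algebraMap R (Localization.AtPrime p) r) := rfl

include hqp in
theorem toQuot_injective : Function.Injective (toQuot p q) := by
  rw [injective_iff_map_eq_zero]
  intro x hx
  obtain ⟨r, rfl⟩ := Ideal.Quotient.mk_surjective x
  rw [toQuot_mk, Submodule.Quotient.mk_eq_zero] at hx
  have hdisj : Disjoint (p.primeCompl : Set R) (q : Set R) := by
    rw [Set.disjoint_left]
    intro a ha haq
    exact ha (hqp haq)
  have := IsLocalization.under_map_of_isPrime_disjoint p.primeCompl (Localization.AtPrime p)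
    ‹q.IsPrime› hdisj
  rw [Ideal.Quotient.eq_zero_iff_mem, ← this, Ideal.mem_comap]
  exact hx

include hqp in
theorem isLocalizedModule_toQuot : IsLocalizedModule p.primeCompl (toQuot p q) where
  map_units s := by
    rw [Module.End.isUnit_iff]
    have hu : IsUnit (algebraMap R (Localization.AtPrime p) (s : R)) :=
      IsLocalization.map_units (Localization.AtPrime p) s
    constructor
    · intro a b hab
      simp only [Module.algebraMap_end_apply] at hab
      have h1 : (algebraMap R (Localization.AtPrime p) (s : R)) • a =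
          (algebraMap R (Localization.AtPrime p) (s : R)) • b := by
        rw [algebraMap_smul, algebraMap_smul]
        exact hab
      have h2 := congrArg (fun z => ((hu.unit⁻¹ : (Localization.AtPrime p)ˣ) : Localization.AtPrime p) • z) h1
      simp only [← mul_smul, IsUnit.val_inv_mul, one_smul] at h2
      exact h2
    · intro b
      refine ⟨((hu.unit⁻¹ : (Localization.AtPrime p)ˣ) : Localization.AtPrime p) • b, ?_⟩
      simp only [Module.algebraMap_end_apply]
      rw [← algebraMap_smul (Localization.AtPrime p) (s : R), ← mul_smul, IsUnit.mul_val_inv,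
        one_smul]
  surj y := by
    obtain ⟨a, rfl⟩ := Submodule.Quotient.mk_surjective _ y
    obtain ⟨r, s, rfl⟩ := IsLocalization.exists_mk'_eq p.primeCompl a
    refine ⟨⟨Ideal.Quotient.mk q r, s⟩, ?_⟩
    rw [toQuot_mk, Submonoid.smul_def, ← algebraMap_smul (Localization.AtPrime p) (s : R),
      ← Submodule.Quotient.mk_smul, smul_eq_mul, mul_comm, IsLocalization.mk'_spec]
  exists_of_eq {x y} h := ⟨1, by rw [toQuot_injective p q hqp h]⟩

/-- `(R ⧸ q)_p ≃ R_p ⧸ q R_p` as `R_p`-modules -/
noncomputable def locQuotEquiv :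
    LocalizedModule p.primeCompl (R ⧸ q) ≃ₗ[Localization.AtPrime p]
      (Localization.AtPrime p ⧸ q.map (algebraMap R (Localization.AtPrime p))) :=
  haveI := isLocalizedModule_toQuot p q hqp
  (IsLocalizedModule.iso p.primeCompl (toQuot p q)).extendScalarsOfIsLocalization p.primeCompl
    (Localization.AtPrime p)

end LocQuot

section Vanish

variable {ι : Type} [AddCommGroup ι] [DecidableEq ι]
variable {R : Type u} [CommRing R] [IsNoetherianRing R] {𝒜 : ι → AddSubgroup R} [GradedRing 𝒜]
variable (q : HomogeneousIdeal 𝒜) [q.toIdeal.IsPrime] (p : Ideal R) [p.IsPrime]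
  (hqp : q.toIdeal ≤ p)

/-- the module `R_p ⧸ q R_p` -/
abbrev TT : Type u := Localization.AtPrime p ⧸ QQ p q

/-- the object `R_p ⧸ q R_p` -/
noncomputable abbrev KK : ModuleCat.{u} (Localization.AtPrime p) :=
  ModuleCat.of (Localization.AtPrime p) (TT q p)

include hqp in
/-- `Ext^i_{R_p}(R_p ⧸ q R_p, X_p) = 0` for `X` *injective and `i ≥ 1`. -/
theorem ext_KK_subsingleton (X : GrLC.GMod.{u} 𝒜) (hX : GrLC.IsStarInj 𝒜 X.gr) (i : ℕ) (hi : 1 ≤ i) :
    Subsingleton (Ext.{u} (KK q p) (locObj p.primeCompl X.carrier) i) := by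
  have hker : (LinearMap.ker (Submodule.mkQ q.toIdeal)).IsHomogeneous 𝒜 := by
    rw [Submodule.ker_mkQ]
    exact q.isHomogeneous
  let Qm : GrLC.GMod.{u} 𝒜 := quotGMod 𝒜 𝒜 (Submodule.mkQ q.toIdeal)
    (Submodule.mkQ_surjective _) hker
  have hfin : Module.Finite R Qm.carrier :=
    Module.Finite.of_surjective (Submodule.mkQ q.toIdeal) (Submodule.mkQ_surjective _)
  have h1 : Subsingleton (Ext.{u} (ModuleCat.of (Localization.AtPrime p)
      (LocalizedModule p.primeCompl (R ⧸ q.toIdeal))) (locObj p.primeCompl X.carrier) i) :=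
    ext_loc_subsingleton 𝒜 X.gr p.primeCompl hX i hi Qm hfin
  exact (extCongrLeft (locQuotEquiv p q.toIdeal hqp) (locObj p.primeCompl X.carrier) i).symm.toEquiv.subsingleton

end Vanish

end Groth.Agent.H98.Bass1
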