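import Groth.Agent.H98.Bass1.AnnFree
import Groth.Agent.H98.Bass0.MinRes

set_option autoImplicit false
universe u

/-!
# Along a minimal *injective resolution, `Ext^j_{R_p}(R_p ⧸ q R_p, M_p) ≅ (0 :_{X^j_p} q)`
-/

namespace Groth.Agent.H98.Bass1

open CategoryTheory Abelian IsLocalRing Groth.Agent.H98.GrStar Groth.Agent.H98.Bass0

section MinShift

variable {ι : Type} [AddCommGroup ι] [DecidableEq ι]
variable {R : Type u} [CommRing R] [IsNoetherianRing R] {𝒜 : ι → AddSubgroup R} [GradedRing 𝒜]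
variable {M : Type u} [AddCommGroup M] [Module R M] {ℳ : ι → AddSubgroup M}
  [DirectSum.Decomposition ℳ] [SetLike.GradedSMul 𝒜 ℳ]
variable (E : GrLC.StarInjRes 𝒜 ℳ)
variable (q : HomogeneousIdeal 𝒜) [q.toIdeal.IsPrime] (p : Ideal R) [p.IsPrime]
  (hqp : q.toIdeal ≤ p) (hcore : ∀ g, ∀ x ∈ 𝒜 g, x ∈ p → x ∈ q.toIdeal)

omit [IsNoetherianRing R] in
theorem mk_mem_soc {X : Type u} [AddCommGroup X] [Module R X] {y : X}
    (hy : ∀ r ∈ q.toIdeal, r • y = 0) :
    (LocalizedModule.mk y 1 : LocalizedModule q.toIdeal.primeCompl X) ∈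
      soc (Localization.AtPrime q.toIdeal) (LocalizedModule q.toIdeal.primeCompl X) := by
  rw [mem_soc_iff]
  intro a ha
  have h1 := mk1_mem_annSub q q.toIdeal hy
  rw [← Localization.AtPrime.map_eq_maximalIdeal] at ha
  exact h1 a ha

omit [p.IsPrime] in
include hcore in
/-- minimality: the differential kills the homogeneous socle elements, locally at `p` -/
theorem exists_smul_d_eq_zero (hE : IsMinimal E) (n : ℕ) {y : (E.X n).carrier}
    (hy : y ∈ socSet (E.X n).gr q) : ∃ t : R, t ∉ p ∧ t • E.d n y = 0 := by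
  classical
  have h1 := hE.soc_le q n (mk_mem_soc q hy.2)
  obtain ⟨z, hz⟩ := h1
  induction z using LocalizedModule.induction_on with
  | h z₀ s =>
    rw [LocalizedModule.map_mk, LocalizedModule.mk_eq] at hz
    obtain ⟨u, hu⟩ := hz
    have h2 : ((u : R) * (s : R)) • E.d n y = 0 := by
      have h3 := congrArg (E.d n) hu
      have h4 : E.d n ((ZZ E n).subtype z₀) = 0 := z₀.2
      rw [Submonoid.smul_def, Submonoid.smul_def, Submonoid.smul_def, Submonoid.smul_def,
        map_smul, map_smul, map_smul, map_smul, h4, smul_zero, smul_zero] at h3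
      rw [mul_smul]
      exact h3.symm
    have hus : (u : R) * (s : R) ∉ q.toIdeal := (u * s).2
    obtain ⟨g, hg⟩ := hy.1
    have hdy : E.d n y ∈ (E.X (n + 1)).gr g := E.d_grHom n g y hg
    obtain ⟨h, hh⟩ : ∃ h, ((DirectSum.decompose 𝒜 ((u : R) * (s : R)) h : 𝒜 h) : R) ∉ q.toIdeal := by
      by_contra hall
      push Not at hall
      apply hus
      rw [← DirectSum.sum_support_decompose 𝒜 ((u : R) * (s : R))]
      exact Ideal.sum_mem _ fun i _ => hall i
    refine ⟨_, fun hp => hh (hcore h _ (SetLike.coe_mem _) hp), ?_⟩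
    rw [← decompose_smul_of_mem 𝒜 (E.X (n + 1)).gr hdy ((u : R) * (s : R)) h, h2]
    simp

include hcore in
/-- (H0) every map `R_p ⧸ q R_p → X^n_p` is killed by the differential -/
theorem comp_dZ_eq_zero (hE : IsMinimal E) (n : ℕ)
    (φ : KK q p ⟶ locObj p.primeCompl (E.X n).carrier) :
    φ ≫ ModuleCat.ofHom (LocalizedModule.map p.primeCompl (dZ E n)) = 0 := by
  obtain ⟨Λ, hΛ⟩ := exists_maximal (E.X n).gr q
  apply ModuleCat.hom_ext
  apply LinearMap.ext
  intro z
  have hz : φ.hom z ∈ annSub (QQ p q) (LocalizedModule p.primeCompl (E.X n).carrier) := by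
    intro a ha
    rw [← map_smul]
    obtain ⟨b, rfl⟩ := Submodule.Quotient.mk_surjective _ z
    have : a • (Submodule.Quotient.mk b : TT q p) = 0 := by
      rw [← Submodule.Quotient.mk_smul, Submodule.Quotient.mk_eq_zero, smul_eq_mul]
      exact Ideal.mul_mem_right _ _ ha
    rw [this, map_zero]
  have hspan := loc_span p hcore hΛ _ hz
  have hle : Submodule.span (Localization.AtPrime p) (mk1 (X := (E.X n).carrier) p '' Λ) ≤
      LinearMap.ker (LocalizedModule.map p.primeCompl (dZ E n)) := by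
    rw [Submodule.span_le]
    rintro _ ⟨y, hy, rfl⟩
    rw [SetLike.mem_coe, LinearMap.mem_ker, LocalizedModule.map_mk, mk_eq_zero_iff']
    obtain ⟨t, ht, hty⟩ := exists_smul_d_eq_zero E q p hcore hE n (hΛ.prop.1 hy)
    refine ⟨t, ht, ?_⟩
    apply Subtype.ext
    exact hty
  exact hle hspan

end MinShift

end Groth.Agent.H98.Bass1
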